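import Cfsg.Agent.H833.Spr4.All
import Cfsg.Agent.S5785

/-!
# S3938: `Spr (PSU_4(q))`
-/

set_option autoImplicit false

namespace Cfsg.Agent.H833.Spr4

open Cfsg Cfsg.Agent.H424.Spr

/-- **`Spr (PSU_4(q))`, all `q ≥ 2`** -/
theorem spr_psu4 {F : Type} [Field F] [Fintype F] {q : ℕ} (hF : Fintype.card F = q ^ 2) : Spr (PSU 4 F q) :=
  spr_of_list (fun _ _ _ q hF H hH hS => Cfsg.Agent.S5785.result q hF H hH hS) hF

end Cfsg.Agent.H833.Spr4
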