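import Cfsg.Agent.H833.Spr4.Crit2
import Cfsg.Agent.H833.Spr4.Gen
import Cfsg.Agent.SporRec.GF4
import Cfsg.Agent.LieClassical.FieldTransfer

/-!
# S3938: `Spr (PSU_4(2))`
-/

set_option autoImplicit false
set_option linter.unusedSectionVars false

namespace Cfsg.Agent.H833.Spr4.Two

open Cfsg Cfsg.Geo Module Cfsg.Agent.H918 Cfsg.Agent.H251 Cfsg.Agent.H951 Cfsg.Agent.H834.Cov
open Cfsg.Agent.LieClassical
open Cfsg.Agent.SporRec.GF4
open Cfsg.Agent.H424.Spr (Spr)
open scoped Matrix MatrixGroups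

/-- the element of order 9 -/
def G : Matrix (Fin 4) (Fin 4) F4 := !![.z, .z, .w, .z; .o, .z, .z, .z; .z, .o, .z, .z; .z, .z, .z, .v]

theorem hF : Fintype.card F4 = 2 ^ 2 := rfl

theorem G_isom : Gᵀ * G.map (GUOrder.frob hF) = 1 := by decide +kernel

theorem G_det : G.det = 1 := by decide +kernel

theorem G_mulVec (x : Fin 4 → F4) : G *ᵥ x = ![F4.w * x 2, x 0, x 1, F4.v * x 3] := by
  have h : ∀ y : F4, F4.z * y = 0 := fun y => zero_mul y
  have h1 : ∀ y : F4, F4.o * y = y := fun y => one_mul y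
  ext i
  fin_cases i <;> simp [G, Matrix.mulVec, dotProduct, Fin.sum_univ_four, h, h1]

theorem herm_eq (x y : Fin 4 → F4) :
    hermForm 4 F4 2 x y = x 0 * (y 0 * y 0) + x 1 * (y 1 * y 1) + x 2 * (y 2 * y 2) + x 3 * (y 3 * y 3) := by
  rw [hermForm, Fin.sum_univ_four]
  simp only [pow_two]

theorem forall_vec {p : (Fin 4 → F4) → Prop} (h : ∀ a b c d : F4, p ![a, b, c, d]) (x : Fin 4 → F4) : p x := by
  have : x = ![x 0, x 1, x 2, x 3] := by
    ext i; fin_cases i <;> rfl
  rw [this]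
  exact h _ _ _ _

/-- totally isotropic invariant subspaces -/
theorem ts_zero : ∀ a b c d : F4, a * (a * a) + b * (b * b) + c * (c * c) + d * (d * d) = 0 →
    (F4.w * c) * (a * a) + a * (b * b) + b * (c * c) + (F4.v * d) * (d * d) = 0 →
    (F4.w * b) * (a * a) + (F4.w * c) * (b * b) + a * (c * c) + (F4.v * (F4.v * d)) * (d * d) = 0 →
    (F4.w * a) * (a * a) + (F4.w * b) * (b * b) + (F4.w * c) * (c * c) + (F4.v * (F4.v * (F4.v * d))) * (d * d) = 0 →
    a = 0 ∧ b = 0 ∧ c = 0 ∧ d = 0 := by decide +kernel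

/-- eigenvectors -/
theorem eig : ∀ a b c d t : F4, F4.w * c = t * a → a = t * b → b = t * c → F4.v * d = t * d →
    a = 0 ∧ b = 0 ∧ c = 0 := by decide +kernel

/-- the lines of the frames -/
theorem frame_line : ∀ a b c d : F4, a * (a * a) + b * (b * b) + c * (c * c) + d * (d * d) ≠ 0 →
    (F4.w * c) * (a * a) + a * (b * b) + b * (c * c) + (F4.v * d) * (d * d) = 0 →
    ((F4.w * b) * (a * a) + (F4.w * c) * (b * b) + a * (c * c) + (F4.v * (F4.v * d)) * (d * d) = 0 ∨
      ∃ t : F4, F4.w * b = t * a ∧ F4.w * c = t * b ∧ a = t * c ∧ F4.v * (F4.v * d) = t * d) →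
    (b = 0 ∧ c = 0 ∧ d = 0) ∨ (a = 0 ∧ c = 0 ∧ d = 0) ∨ (a = 0 ∧ b = 0 ∧ d = 0) := by decide +kernel

/-- the element of order 9 -/
def g : GL (Fin 4) F4 := suHom 4 F4 2 (H674.SUTools.mkSU hF G G_det G_isom)

theorem g_coe : (g : Matrix (Fin 4) (Fin 4) F4) = G := rfl

theorem g_mem : g ∈ SUg 4 F4 2 := suHom_mem _

theorem exists_gen {W : Submodule F4 (Fin 4 → F4)} (h : finrank F4 W = 1) : ∃ x, x ≠ 0 ∧ W = Submodule.span F4 {x} := by
  obtain ⟨⟨x, hx⟩, hx0, hxs⟩ := finrank_eq_one_iff'.1 h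
  refine ⟨x, fun h0 => hx0 (Subtype.ext h0), le_antisymm (fun y hy => ?_) ?_⟩
  · obtain ⟨t, ht⟩ := hxs ⟨y, hy⟩
    have : t • x = y := congrArg Subtype.val ht
    rw [← this]
    exact Submodule.smul_mem _ _ (Submodule.mem_span_singleton_self x)
  · rw [Submodule.span_singleton_le_iff_mem]
    exact hx

/-- the coordinate lines -/
def D₀ (i : Fin 4) : Submodule F4 (Fin 4 → F4) := Submodule.span F4 {Pi.single i 1}

theorem span_eq {x : Fin 4 → F4} (hx : x ≠ 0) (i : Fin 4) (h : ∀ j, j ≠ i → x j = 0) :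
    Submodule.span F4 {x} = D₀ i := by
  have h1 : x = x i • (Pi.single i 1 : Fin 4 → F4) := by
    funext j
    by_cases hj : j = i
    · subst hj
      simp
    · rw [h j hj, Pi.smul_apply, Pi.single_apply, if_neg hj, smul_zero]
  have h2 : x i ≠ 0 := by
    intro h0
    apply hx
    rw [h1, h0, zero_smul]
  rw [D₀, h1]
  exact Submodule.span_singleton_smul_eq (IsUnit.mk0 _ (by simpa using h2)) _

theorem line {x : Fin 4 → F4} (hx : x ≠ 0) {t : F4} (h : G *ᵥ x = t • x) : Submodule.span F4 {x} = D₀ 3 := by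
  rw [G_mulVec] at h
  have h0 := congrFun h 0
  have h1 := congrFun h 1
  have h2 := congrFun h 2
  have h3 := congrFun h 3
  obtain ⟨e0, e1, e2⟩ := eig (x 0) (x 1) (x 2) (x 3) t h0 h1 h2 h3
  apply span_eq hx
  intro j hj
  fin_cases j
  · exact e0
  · exact e1
  · exact e2
  · exact absurd rfl hj

theorem dec_le {F : Type} [Field F] {n t : ℕ} {D D' : Fin t → Submodule F (Fin n → F)} (e : Equiv.Perm (Fin t))
    (he : ∀ i, D i = D' (e i)) : decompositionStabilizer D ≤ decompositionStabilizer D' := by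
  rintro h ⟨ρ, hρ⟩
  refine ⟨(e.symm.trans ρ).trans e, fun j => ?_⟩
  obtain ⟨i, rfl⟩ := e.surjective j
  have h2 : D' (((e.symm.trans ρ).trans e) (e i)) = D (ρ i) := by
    rw [Equiv.trans_apply, Equiv.trans_apply, Equiv.symm_apply_apply]
    exact (he (ρ i)).symm
  rw [← he i, h2]
  exact hρ i

theorem dec_eq {F : Type} [Field F] {n t : ℕ} {D D' : Fin t → Submodule F (Fin n → F)} (e : Equiv.Perm (Fin t))
    (he : ∀ i, D i = D' (e i)) : decompositionStabilizer D = decompositionStabilizer D' := by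
  apply le_antisymm (dec_le e he)
  apply dec_le e.symm
  intro i
  rw [he, Equiv.apply_symm_apply]

theorem conj_stab {F : Type} [Field F] {n : ℕ} {E : Submodule F (Fin n → F)} (hE : finrank F E = 1) {s y : GL (Fin n) F}
    (hline : ∀ W : Submodule F (Fin n → F), finrank F W = 1 →
      Inv (Matrix.toLin' (s : Matrix (Fin n) (Fin n) F)) W → W = E)
    (h : y⁻¹ * s * y ∈ subspaceStabilizer E) : y ∈ subspaceStabilizer E := by
  have hinj : Function.Injective (Matrix.toLin' (y : Matrix (Fin n) (Fin n) F)) := by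
    intro u v huv
    have h7 := congrArg (Matrix.toLin' ((y⁻¹ : GL (Fin n) F) : Matrix (Fin n) (Fin n) F)) huv
    rw [Matrix.toLin'_apply, Matrix.toLin'_apply, Matrix.toLin'_apply, Matrix.toLin'_apply, Matrix.mulVec_mulVec,
      Matrix.mulVec_mulVec, ← Units.val_mul, inv_mul_cancel, Units.val_one, Matrix.one_mulVec, Matrix.one_mulVec] at h7
    exact h7
  have hW : E.map (Matrix.toLin' (y : Matrix (Fin n) (Fin n) F)) = E := by
    apply hline
    · rw [← hE]
      exact (Submodule.equivMapOfInjective _ hinj E).finrank_eq.symm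
    · rintro _ ⟨v, hv, rfl⟩
      refine ⟨((y⁻¹ * s * y : GL (Fin n) F) : Matrix (Fin n) (Fin n) F) *ᵥ v, ((mem_subspaceStabilizer.1 h) v).1 hv, ?_⟩
      rw [Matrix.toLin'_apply, Matrix.toLin'_apply, Matrix.toLin'_apply, Matrix.mulVec_mulVec, Matrix.mulVec_mulVec,
        ← Units.val_mul, ← Units.val_mul]
      congr 2
      group
  rw [mem_subspaceStabilizer]
  intro v
  constructor
  · intro hv
    rw [← hW]
    exact ⟨v, hv, rfl⟩
  · intro hv
    rw [← hW] at hv
    obtain ⟨w, hw, hwv⟩ := hv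
    rwa [← hinj hwv]

theorem frame {D : Fin 4 → Submodule F4 (Fin 4 → F4)} (hD : IsNondegenerateMDecomposition (hermForm 4 F4 2) 1 D)
    (hg : g ∈ decompositionStabilizer D) : ∃ e : Equiv.Perm (Fin 4), ∀ i, D i = D₀ (e i) := by
  obtain ⟨σ, hσ⟩ := hg
  rw [g_coe] at hσ
  have hmap : ∀ i, ∀ x ∈ D i, G *ᵥ x ∈ D (σ i) := by
    intro i x hx
    rw [← hσ i]
    exact ⟨x, hx, rfl⟩
  have key : ∀ i, ∃ j, D i = D₀ j := by
    intro i
    obtain ⟨x, hx0, hx⟩ := exists_gen (hD.decomp.finrank_eq i)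
    have hxD : x ∈ D i := by rw [hx]; exact Submodule.mem_span_singleton_self x
    have hprop : ∀ y ∈ D i, ∃ t : F4, y = t • x := by
      intro y hy
      rw [hx] at hy
      obtain ⟨t, ht⟩ := Submodule.mem_span_singleton.1 hy
      exact ⟨t, ht.symm⟩
    by_cases hi : σ i = i
    · have h1 := hmap i x hxD
      rw [hi] at h1
      obtain ⟨t, ht⟩ := hprop _ h1
      exact ⟨3, by rw [hx]; exact line hx0 ht⟩
    · have h1 : hermForm 4 F4 2 (G *ᵥ x) x = 0 := hD.orthogonal _ _ hi _ (hmap i x hxD) _ hxD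
      have h2 : hermForm 4 F4 2 x x ≠ 0 := by
        intro h0
        obtain ⟨⟨y, hy, hy'⟩, -⟩ := hD.nondegenerate i x hxD hx0
        obtain ⟨t, rfl⟩ := hprop y hy
        apply hy'
        rw [herm_eq] at h0 ⊢
        simp only [Pi.smul_apply, smul_eq_mul]
        linear_combination t * h0
      have h3 : hermForm 4 F4 2 (G *ᵥ (G *ᵥ x)) x = 0 ∨ ∃ t : F4, G *ᵥ (G *ᵥ x) = t • x := by
        by_cases hi2 : σ (σ i) = i
        · right
          have := hmap _ _ (hmap i x hxD)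
          rw [hi2] at this
          exact hprop _ this
        · left
          exact hD.orthogonal _ _ hi2 _ (hmap _ _ (hmap i x hxD)) _ hxD
      rw [herm_eq] at h2
      rw [G_mulVec, herm_eq] at h1
      rw [G_mulVec, G_mulVec, herm_eq] at h3
      have h4 := frame_line (x 0) (x 1) (x 2) (x 3) h2 h1 (by
        rcases h3 with h3 | ⟨t, h3⟩
        · exact Or.inl h3
        · exact Or.inr ⟨t, congrFun h3 0, congrFun h3 1, congrFun h3 2, congrFun h3 3⟩)
      rcases h4 with ⟨e1, e2, e3⟩ | ⟨e1, e2, e3⟩ | ⟨e1, e2, e3⟩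
      · refine ⟨0, by rw [hx]; apply span_eq hx0; intro j hj; fin_cases j; exacts [absurd rfl hj, e1, e2, e3]⟩
      · refine ⟨1, by rw [hx]; apply span_eq hx0; intro j hj; fin_cases j; exacts [e1, absurd rfl hj, e2, e3]⟩
      · refine ⟨2, by rw [hx]; apply span_eq hx0; intro j hj; fin_cases j; exacts [e1, e2, absurd rfl hj, e3]⟩
  choose τ hτ using key
  have hinj : Function.Injective τ := by
    intro i j hij
    by_contra hne
    have h1 : D i = D j := by rw [hτ i, hτ j, hij]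
    have h2 := (hD.decomp.indep.pairwiseDisjoint hne)
    rw [Function.onFun, h1, disjoint_self] at h2
    have h3 := hD.decomp.finrank_eq j
    rw [h2, finrank_bot] at h3
    exact absurd h3 (by norm_num)
  exact ⟨Equiv.ofBijective τ (Finite.injective_iff_bijective.1 hinj), hτ⟩

/-- subfields with two elements -/
theorem subfield_two {F₀ : Subfield F4} (h : Fintype.card F4 = Nat.card F₀ ^ 2) {x : F4} (hx : x ∈ F₀) :
    x = 0 ∨ x = 1 := by
  by_contra hcon
  push Not at hcon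
  have h1 : Nat.card F₀ = 2 := by
    have h4 : Fintype.card F4 = 4 := rfl
    rw [h4] at h
    nlinarith [h]
  have h2 : ({0, 1, x} : Finset F4).card = 3 := by
    rw [Finset.card_insert_of_notMem, Finset.card_pair hcon.2.symm]
    simp only [Finset.mem_insert, Finset.mem_singleton, not_or]
    exact ⟨zero_ne_one, hcon.1.symm⟩
  have h3 : (({0, 1, x} : Finset F4) : Set F4) ⊆ (F₀ : Set F4) := by
    intro y hy
    simp only [Finset.coe_insert, Finset.coe_singleton, Set.mem_insert_iff, Set.mem_singleton_iff] at hy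
    rcases hy with rfl | rfl | rfl
    · exact F₀.zero_mem
    · exact F₀.one_mem
    · exact hx
  have h4 := Set.ncard_le_ncard h3 (Set.toFinite _)
  rw [Set.ncard_coe_finset, h2] at h4
  have h5 : (F₀ : Set F4).ncard = Nat.card F₀ := rfl
  omega

theorem G_cube : G * G * G = !![.w, .z, .z, .z; .z, .w, .z, .z; .z, .z, .w, .z; .z, .z, .z, .o] := by decide +kernel

theorem not_subfield {F₀ : Subfield F4} (h : Fintype.card F4 = Nat.card F₀ ^ 2) {P : GL (Fin 4) F4}
    (hg : g ∈ subfieldSubgroup F₀ P) : False := by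
  obtain ⟨y, hy, hyg⟩ := hg
  have hyg' : P * y * P⁻¹ = g := hyg
  have hy' : y ∈ (Matrix.GeneralLinearGroup.map (F₀.subtype : F₀ →+* F4)).range ⊔ scalars (Fin 4) F4 := hy
  rw [Subgroup.mem_sup_of_normal_right] at hy'
  obtain ⟨_, ⟨x, rfl⟩, z, hz, hxz⟩ := hy'
  obtain ⟨c, hc⟩ := (mem_scalars_iff _).1 hz
  have hc3 : (c : F4) * (c * c) = 1 := by
    have h1 : ∀ t : F4, t ≠ 0 → t * (t * t) = 1 := by decide +kernel
    exact h1 _ c.ne_zero
  set X : Matrix (Fin 4) (Fin 4) F4 := ((Matrix.GeneralLinearGroup.map (F₀.subtype : F₀ →+* F4) x : GL (Fin 4) F4) :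
    Matrix (Fin 4) (Fin 4) F4) with hX
  have hyX : (y : Matrix (Fin 4) (Fin 4) F4) = (c : F4) • X := by
    rw [← hxz, Units.val_mul, hc, Matrix.mul_smul, mul_one]
  have h1 : Matrix.trace (G * G * G) = Matrix.trace (X * X * X) := by
    have h2 : G = (P : Matrix (Fin 4) (Fin 4) F4) * y * ((P⁻¹ : GL (Fin 4) F4) : Matrix (Fin 4) (Fin 4) F4) := by
      rw [← Units.val_mul, ← Units.val_mul, hyg', g_coe]
    have h3 : G * G * G = (P : Matrix (Fin 4) (Fin 4) F4) * ((y : Matrix (Fin 4) (Fin 4) F4) * y * y) *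
        ((P⁻¹ : GL (Fin 4) F4) : Matrix (Fin 4) (Fin 4) F4) := by
      have h4 : g * g * g = P * (y * y * y) * P⁻¹ := by
        rw [← hyg']
        group
      have h5 := congrArg (fun u : GL (Fin 4) F4 => (u : Matrix (Fin 4) (Fin 4) F4)) h4
      exact h5
    have h5 : ((c : F4) • X) * ((c : F4) • X) * ((c : F4) • X) = ((c : F4) * ((c : F4) * (c : F4))) • (X * X * X) := by
      simp only [Matrix.smul_mul, Matrix.mul_smul, smul_smul]
    rw [h3, Matrix.trace_mul_comm, ← mul_assoc, ← Units.val_mul, inv_mul_cancel, Units.val_one, one_mul, hyX, h5, hc3,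
      one_smul]
  have h2 : Matrix.trace (X * X * X) ∈ F₀ := by
    have h3 : ∀ i j, X i j ∈ F₀ := fun i j => ((x : Matrix (Fin 4) (Fin 4) F₀) i j).2
    have h4 : ∀ A B : Matrix (Fin 4) (Fin 4) F4, (∀ i j, A i j ∈ F₀) → (∀ i j, B i j ∈ F₀) → ∀ i j, (A * B) i j ∈ F₀ := by
      intro A B hA hB i j
      rw [Matrix.mul_apply]
      exact Subfield.sum_mem _ fun k _ => F₀.mul_mem (hA _ _) (hB _ _)
    exact Subfield.sum_mem _ fun i _ => h4 _ _ (h4 _ _ h3 h3) h3 i i
  rw [← h1, G_cube] at h2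
  rcases subfield_two h h2 with h3 | h3
  · revert h3; decide +kernel
  · revert h3; decide +kernel

theorem spr_two_aux (hR : ResList F4 2) : Spr (PSU 4 F4 2) := by
  have hE0 : D₀ 3 ≠ ⊥ := by
    rw [D₀, Ne, Submodule.span_singleton_eq_bot]
    exact (Pi.single_ne_zero_iff).2 one_ne_zero
  have hfin : finrank F4 (D₀ 3) = 1 := finrank_span_singleton ((Pi.single_ne_zero_iff).2 one_ne_zero)
  have hET : D₀ 3 ≠ ⊤ := by
    intro h
    rw [h, finrank_top, finrank_fintype_fun_eq_card, Fintype.card_fin] at hfin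
    omega
  have h1 : ¬ SUg 4 F4 2 ≤ subspaceStabilizer (D₀ 3) :=
    not_le_subspaceStabilizer (SUg_irreducible hF (by norm_num)) hE0 hET
  have hlineW : ∀ W : Submodule F4 (Fin 4 → F4), finrank F4 W = 1 → Inv (Matrix.toLin' G) W → W = D₀ 3 := by
    intro W hW hinv
    obtain ⟨x, hx0, rfl⟩ := exists_gen hW
    obtain ⟨t, ht⟩ := Submodule.mem_span_singleton.1 (hinv x (Submodule.mem_span_singleton_self x))
    rw [Matrix.toLin'_apply] at ht
    exact line hx0 ht.symm
  -- the overgroups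
  have cover : ∀ H, IsMaximalIn (SUg 4 F4 2) H → g ∈ H → H ≤ subspaceStabilizer (D₀ 3) ∨
      (H ≤ decompositionStabilizer D₀ ∧ g ∈ decompositionStabilizer D₀ ∧ ¬ SUg 4 F4 2 ≤ decompositionStabilizer D₀) := by
    intro H hH hgH
    rcases Cfsg.Agent.S5784.result 2 hF H hH with h | h | h | h | h | h | h | h | h | h
    · exfalso
      obtain ⟨W, hW0, hW, rfl⟩ := h
      obtain ⟨x, hx, hx0⟩ := (Submodule.ne_bot_iff _).1 hW0
      have hinv : ∀ y ∈ W, G *ᵥ y ∈ W := fun y hy => ((mem_subspaceStabilizer.1 hgH.1) y).1 hy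
      have e1 := hW x hx x hx
      have e2 := hW _ (hinv _ hx) x hx
      have e3 := hW _ (hinv _ (hinv _ hx)) x hx
      have e4 := hW _ (hinv _ (hinv _ (hinv _ hx))) x hx
      rw [herm_eq] at e1
      rw [G_mulVec, herm_eq] at e2
      rw [G_mulVec, G_mulVec, herm_eq] at e3
      rw [G_mulVec, G_mulVec, G_mulVec, herm_eq] at e4
      obtain ⟨z0, z1, z2, z3⟩ := ts_zero (x 0) (x 1) (x 2) (x 3) e1 e2 e3 e4
      apply hx0
      funext i
      fin_cases i
      exacts [z0, z1, z2, z3]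
    · left
      obtain ⟨W, hW0, hW, hW2, rfl⟩ := h
      have hpos : 0 < finrank F4 W := by
        rw [Nat.pos_iff_ne_zero, Ne, Submodule.finrank_eq_zero]
        exact hW0
      rw [← hlineW W (by omega) (GeoU.inv_of_mem hgH.1)]
      exact inf_le_left
    · right
      obtain ⟨-, D, hD, rfl⟩ := h
      obtain ⟨e, he⟩ := frame hD hgH.1
      have h2 := dec_eq e he
      rw [h2] at hH hgH ⊢
      refine ⟨inf_le_left, hgH.1, fun h3 => ?_⟩
      have h4 := hH.1
      rw [inf_eq_right.2 h3] at h4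
      exact lt_irrefl _ h4
    · omega
    · omega
    · exfalso
      obtain ⟨F₀, r', P, hr', hro, hcd, -, rfl⟩ := h
      have h4 : Fintype.card F4 = 4 := rfl
      rw [h4] at hcd
      have h5 : Nat.card F₀ ≤ 1 ∨ 2 ≤ Nat.card F₀ := by omega
      rcases h5 with h5 | h5
      · have h6 : Nat.card F₀ ^ r' ≤ 1 := by
          calc Nat.card F₀ ^ r' ≤ 1 ^ r' := Nat.pow_le_pow_left h5 _
            _ = 1 := one_pow _
        omega
      · have h7 : 3 ≤ r' := by
          have := hr'.two_le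
          obtain ⟨k, hk⟩ := hro
          omega
        have h6 : 2 ^ 3 ≤ Nat.card F₀ ^ r' :=
          (Nat.pow_le_pow_left h5 3).trans (Nat.pow_le_pow_right (by omega) h7)
        omega
    · obtain ⟨F₀, P, ζ, hcd, -, -, -, -, rfl⟩ := h
      exact (not_subfield hcd hgH.1).elim
    · obtain ⟨h, -⟩ := h
      exact absurd h (by decide)
    · obtain ⟨p', R, -, h2, h3, -⟩ := h
      omega
    · obtain ⟨P, -, -, ⟨-, h⟩ | ⟨-, h⟩ | ⟨-, h⟩⟩ := hR H hH h
      · omega
      · omega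
      · omega
  by_cases hex : ∃ H, IsMaximalIn (SUg 4 F4 2) H ∧ g ∈ H ∧ ¬ H ≤ subspaceStabilizer (D₀ 3)
  · obtain ⟨H, hH, hgH, hn⟩ := hex
    obtain ⟨-, hg2, h2⟩ := (cover H hH hgH).resolve_left hn
    refine spr_two_of hF (by norm_num) (by norm_num) g_mem h1 h2 (scalars_le_sub _) (scalars_le_dec _) hg2 ?_
      fun H hH hgH => (cover H hH hgH).imp id fun h => h.1
    intro y hy hyg
    exact conj_stab hfin (s := g) hlineW hyg
  · push Not at hex
    exact spr_one_of hF (by norm_num) (by norm_num) g_mem h1 hex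

/-- **`Spr (PSU_4(2))`** -/
theorem spr_two {F : Type} [Field F] [Fintype F] (hFc : Fintype.card F = 2 ^ 2) (hR : ResList F4 2) : Spr (PSU 4 F 2) := by
  obtain ⟨e⟩ : Nonempty (F4 ≃+* F) := ⟨FiniteField.ringEquivOfCardEq (by rw [hF, hFc])⟩
  exact Cfsg.Agent.H424.Spr.Spr.congr (FieldTransfer.psuCongr 4 2 e) (spr_two_aux hR)

end Cfsg.Agent.H833.Spr4.Two
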