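import Cfsg.Agent.H833.Spr4.CGrp

/-!
# S3938, `PSU_4(3)`: elements of order five and seven
-/

set_option autoImplicit false
set_option maxRecDepth 20000

namespace Cfsg.Agent.H833.Spr4.Cyc

open Cfsg Cfsg.Agent.ChevalleyStructure.NineField Cfsg.Agent.H833.Spr4.Code

def g5 : ℕ := 0x1806183051840836
def X5 : ℕ := 0x416788112666803
def V5 : ℕ := 0x5000100010000
def P5 : ℕ := 0x2702386014482236
def J5 : ℕ := 2
def g7 : ℕ := 0x3321418446587278
def X7 : ℕ := 0x8685067631406312
def V7 : ℕ := 0x5000000070001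
def P7 : ℕ := 0x8718631140615210
def J7 : ℕ := 4

theorem u5 : isU g5 = true := by decide +kernel
theorem s5 : nS g5 = true := by decide +kernel
theorem r5 : isS (pwc g5 5) = true := by decide +kernel
theorem D5 : kD X5 V5 P5 J5 0 = true := by decide +kernel
theorem q5 : cert g5 0 (tM X5 0) (tM V5 0) (tM P5 0) = true := by decide +kernel
theorem u7 : isU g7 = true := by decide +kernel
theorem s7 : nS g7 = true := by decide +kernel
theorem r7 : isS (pwc g7 7) = true := by decide +kernel
theorem D7 : kD X7 V7 P7 J7 0 = true := by decide +kernel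
theorem q7 : cert g7 0 (tM X7 0) (tM V7 0) (tM P7 0) = true := by decide +kernel

open Cfsg Cfsg.Agent.ChevalleyStructure.NineField

theorem uni_pwc {g : ℕ} (hg : Uni g) (k : ℕ) : Uni (pwc g k) ∧ au (pwc g k) 0 = au g 0 ^ k := by
  induction k with
  | zero => exact ⟨uni_one, by rw [pow_zero]; exact au_one⟩
  | succ k ih =>
    refine ⟨uni_mm ih.1 hg 0, ?_⟩
    rw [pow_succ, ← ih.2, au_mul ih.1 hg (by norm_num) (by norm_num)]
    rfl

theorem good_of {r m g X V P J : ℕ} (hr : r.Prime) (hm : 26127360 = r * m) (hrm : ¬ r ∣ m)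
    (hu : isU g = true) (hs : nS g = true)
    (h1 : isS (pwc g r) = true) (hD : kD X V P J 0 = true) (hq : cert g 0 (tM X 0) (tM V 0) (tM P 0) = true)
    (hR : ResList F9 3) {α : MulAut (PSU 4 F9 3)} (hα : orderOf α = r) : Good α := by
  have hfin := finite_aut
  have hfr := Fact.mk hr
  have hU := isU_spec hu
  obtain ⟨hS, hP⟩ := kD_spec hD
  have hg : Good (au g 0) := by
    rw [au_def hU]
    exact good_of_cert hR (gm_gu hU) hS hP hq
  have hne := not_one_of_nS hU (e := 0) (by norm_num) hs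
  have hpr : au g 0 ^ r = 1 := by
    rw [← (uni_pwc hU r).2]
    exact au_scalar (uni_pwc hU r).1 h1
  have ho : orderOf (au g 0) = r := orderOf_eq_prime hpr hne
  have hc : Nat.card (Subgroup.zpowers (au g 0)) = r := by rw [Nat.card_zpowers, ho]
  obtain ⟨b, hb⟩ := exists_conj_mem hr (not_dvd_index card_aut hc (k := m) hm hr.pos hrm) hα
  apply Good.of_conj b
  obtain ⟨h3, h4⟩ := conj_facts hr hα b
  generalize b⁻¹ * α * b = β at hb h3 h4
  have hoβ : orderOf β = r := orderOf_eq_prime h3 h4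
  have hcβ : Nat.card (Subgroup.zpowers β) = r := by rw [Nat.card_zpowers, hoβ]
  have hle : Subgroup.zpowers β ≤ Subgroup.zpowers (au g 0) := Subgroup.zpowers_le.2 hb
  have heq := Subgroup.eq_of_le_of_card_ge hle (by rw [hc, hcβ])
  have hmem : au g 0 ∈ Subgroup.zpowers β := by rw [heq]; exact Subgroup.mem_zpowers _
  obtain ⟨k, hk⟩ := (mem_powers_iff_mem_zpowers).2 hmem
  apply Good.of_pow k
  have hk' : β ^ k = au g 0 := hk
  rw [hk']
  exact hg

theorem good5 (hR : ResList F9 3) {α : MulAut (PSU 4 F9 3)} (hα : orderOf α = 5) : Good α :=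
  good_of (m := 5225472) (by norm_num) (by norm_num) (by norm_num) u5 s5 r5 D5 q5 hR hα

theorem good7 (hR : ResList F9 3) {α : MulAut (PSU 4 F9 3)} (hα : orderOf α = 7) : Good α :=
  good_of (m := 3732480) (by norm_num) (by norm_num) (by norm_num) u7 s7 r7 D7 q7 hR hα

end Cfsg.Agent.H833.Spr4.Cyc
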