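import Cfsg.Agent.H833.Spr4.Mon
import Cfsg.Agent.H833.Spr4.Syl
import Cfsg.Agent.H833.Spr4.Cyc

/-!
# S3938: `Spr (PSU_4(3))`
-/

set_option autoImplicit false

namespace Cfsg.Agent.H833.Spr4

open Cfsg Cfsg.Agent.ChevalleyStructure.NineField Cfsg.Agent.H833.Spr4.Code
open Cfsg.Agent.H424.Spr (Spr)

theorem spr_nine (hR : ResList F9 3) : Spr (PSU 4 F9 3) := by
  intro α hα
  have hfin := finite_aut
  have h1 : orderOf α ≠ 1 := fun h => hα (orderOf_eq_one_iff.1 h)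
  obtain ⟨r, hr, hrd⟩ := Nat.exists_prime_and_dvd h1
  have ho : orderOf (α ^ (orderOf α / r)) = r := orderOf_pow_orderOf_div (orderOf_pos α).ne' hrd
  have hr2 : r ∣ 26127360 := hrd.trans (by rw [← card_aut]; exact orderOf_dvd_natCard α)
  have hr3 : r = 2 ∨ r = 3 ∨ r = 5 ∨ r = 7 := by
    have h2 : r ∣ 2 ^ 10 * 3 ^ 6 * (5 * 7) := by norm_num; exact hr2
    rcases hr.dvd_mul.1 h2 with h3 | h3
    · rcases hr.dvd_mul.1 h3 with h4 | h4
      · exact Or.inl ((Nat.prime_dvd_prime_iff_eq hr Nat.prime_two).1 (hr.dvd_of_dvd_pow h4))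
      · exact Or.inr (Or.inl ((Nat.prime_dvd_prime_iff_eq hr Nat.prime_three).1 (hr.dvd_of_dvd_pow h4)))
    · rcases hr.dvd_mul.1 h3 with h4 | h4
      · exact Or.inr (Or.inr (Or.inl ((Nat.prime_dvd_prime_iff_eq hr (by norm_num)).1 h4)))
      · exact Or.inr (Or.inr (Or.inr ((Nat.prime_dvd_prime_iff_eq hr (by norm_num)).1 h4)))
  have hg : Good (α ^ (orderOf α / r)) := by
    rcases hr3 with h | h | h | h
    · exact Mon.good hR (ho.trans h)
    · exact Syl.good hR (ho.trans h)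
    · exact Cyc.good5 hR (ho.trans h)
    · exact Cyc.good7 hR (ho.trans h)
  exact hg.of_pow _

/-- **`Spr (PSU_4(3))`** -/
theorem spr_three {F : Type} [Field F] [Fintype F] (hF : Fintype.card F = 3 ^ 2) (hR : ResList F9 3) :
    Spr (PSU 4 F 3) :=
  H424.Spr.Spr.congr (LieClassical.FieldTransfer.psuCongr 4 3 (FiniteField.ringEquivOfCardEq (hF9.trans hF.symm)))
    (spr_nine hR)

end Cfsg.Agent.H833.Spr4
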