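import Cfsg.Agent.H833.Spr4.Two
import Cfsg.Agent.H833.Spr4.Three

/-!
# S3938: `Spr (PSU_4(q))`, from the content of S5785
-/

set_option autoImplicit false

namespace Cfsg.Agent.H833.Spr4

open Cfsg Cfsg.Geo Cfsg.Agent.H424.Spr

/-- **`Spr (PSU_4(q))` from the list of the residual maximal subgroups** -/
theorem spr_of_list (hR : ∀ (F : Type) [Field F] [Fintype F] (q : ℕ), Fintype.card F = q ^ 2 → ResList F q)
    {F : Type} [Field F] [Fintype F] {q : ℕ} (hF : Fintype.card F = q ^ 2) : Spr (PSU 4 F q) := by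
  have hq2 : 2 ≤ q := LieClassical.GUOrder.two_le hF
  rcases Nat.lt_or_ge q 4 with h | h
  · interval_cases q
    · exact Two.spr_two hF (hR _ 2 Two.hF)
    · exact spr_three hF (hR _ 3 Code.hF9)
  · exact spr_ge_four hF h (hR F q hF)

end Cfsg.Agent.H833.Spr4
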