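import Mathlib

/-!
# S3938, `PSU_4(3)`: tools on groups

* `Good` : the condition of `Spr` for one automorphism; `Good.of_pow`, `Good.of_conj`;
* `exists_conj_mem` : elements of prime order `r` are conjugate into the subgroups of index prime to `r`;
* `prod_subgroup` : the order of a product of two subgroups.
-/

set_option autoImplicit false

namespace Cfsg.Agent.H833.Spr4

section good

variable {L : Type*} [Group L]

/-- the condition of `Spr` for one automorphism -/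
def Good (a : MulAut L) : Prop := ∃ x : L, ∀ K : Subgroup L, x ∈ K → (∀ k ∈ K, a k ∈ K) → K = ⊤

theorem Good.of_pow {a : MulAut L} (m : ℕ) (h : Good (a ^ m)) : Good a := by
  obtain ⟨x, hx⟩ := h
  refine ⟨x, fun K hxK hK => hx K hxK ?_⟩
  have : ∀ m : ℕ, ∀ k ∈ K, (a ^ m) k ∈ K := by
    intro m
    induction m with
    | zero => intro k hk; exact hk
    | succ m ih =>
      intro k hk
      rw [pow_succ']
      exact hK _ (ih k hk)
  exact this m

theorem Good.of_conj {a : MulAut L} (b : MulAut L) (h : Good (b⁻¹ * a * b)) : Good a := by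
  obtain ⟨x, hx⟩ := h
  refine ⟨b x, fun K hxK hK => ?_⟩
  have h1 := hx (K.comap b.toMonoidHom) hxK (by
    intro k hk
    change b ((b⁻¹ * a * b) k) ∈ K
    have : b ((b⁻¹ * a * b) k) = a (b k) := by
      rw [MulAut.mul_apply, MulAut.mul_apply, MulAut.apply_inv_self]
    rw [this]
    exact hK _ hk)
  rw [eq_top_iff]
  intro y _
  have h2 : b⁻¹ y ∈ K.comap b.toMonoidHom := by rw [h1]; trivial
  have h3 : b (b⁻¹ y) ∈ K := h2
  rwa [MulAut.apply_inv_self] at h3

end good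

section grp

variable {G : Type*} [Group G] [Finite G]

theorem exists_conj_mem {r : ℕ} (hr : r.Prime) {S : Subgroup G} (hS : ¬ r ∣ S.index) {a : G} (ha : orderOf a = r) :
    ∃ g : G, g⁻¹ * a * g ∈ S := by
  have := Fact.mk hr
  have hp : IsPGroup r (Subgroup.zpowers a) := IsPGroup.of_card (n := 1) (by rw [Nat.card_zpowers, ha, pow_one])
  obtain ⟨c, hc⟩ := hp.nonempty_fixed_point_of_prime_not_dvd_card (G ⧸ S) hS
  obtain ⟨g, rfl⟩ := QuotientGroup.mk_surjective c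
  have h1 : ((a * g : G) : G ⧸ S) = (g : G ⧸ S) := hc ⟨a, Subgroup.mem_zpowers a⟩
  refine ⟨g, ?_⟩
  have h2 := QuotientGroup.eq.1 h1.symm
  rwa [← mul_assoc] at h2

/-- the index from the order -/
theorem not_dvd_index {r : ℕ} {S : Subgroup G} {m k N : ℕ} (hG : Nat.card G = N) (hS : Nat.card S = m)
    (hN : N = m * k) (hm : 0 < m) (hk : ¬ r ∣ k) : ¬ r ∣ S.index := by
  have h1 := S.card_mul_index
  rw [hG, hS, hN] at h1
  rwa [Nat.eq_of_mul_eq_mul_left hm h1]

theorem exists_subgroup (T : Set G) (h0 : T.Nonempty) (hT : ∀ x ∈ T, ∀ y ∈ T, x * y ∈ T) :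
    ∃ S : Subgroup G, (S : Set G) = T := by
  have hpow : ∀ x ∈ T, ∀ k : ℕ, x ^ (k + 1) ∈ T := by
    intro x hx k
    induction k with
    | zero => simpa using hx
    | succ k ih => rw [pow_succ]; exact hT _ ih _ hx
  have h1 : ∀ x ∈ T, ∀ k : ℕ, 0 < k → x ^ k ∈ T := by
    intro x hx k hk
    obtain ⟨j, rfl⟩ : ∃ j, k = j + 1 := ⟨k - 1, by omega⟩
    exact hpow x hx j
  obtain ⟨x0, hx0⟩ := h0
  refine ⟨{ carrier := T, mul_mem' := fun {x y} hx hy => hT x hx y hy, one_mem' := ?_, inv_mem' := ?_ }, rfl⟩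
  · rw [← pow_orderOf_eq_one x0]
    exact h1 x0 hx0 _ (orderOf_pos x0)
  · intro x hx
    have h2 : x⁻¹ = x ^ (orderOf x * 2 - 1) := by
      rw [inv_eq_iff_mul_eq_one, ← pow_succ', show orderOf x * 2 - 1 + 1 = orderOf x * 2 by have := orderOf_pos x; omega,
        pow_mul, pow_orderOf_eq_one, one_pow]
    rw [h2]
    exact h1 x hx _ (by have := orderOf_pos x; omega)

/-- a product of two subgroups with trivial intersection -/
theorem prod_subgroup {m n : ℕ} (hm : 0 < m) (hn : 0 < n) (f : Fin m → G) (g : Fin n → G)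
    (hf : ∀ i i', ∃ i'', f i * f i' = f i'') (hg : ∀ j j', ∃ j'', g j * g j' = g j'')
    (hgf : ∀ j i, ∃ i', g j * f i = f i' * g j) (hfi : Function.Injective f) (hgi : Function.Injective g)
    (h1 : ∀ i j, f i = g j → f i = 1) :
    ∃ S : Subgroup G, Nat.card S = m * n ∧ ∀ s ∈ S, ∃ i j, s = f i * g j := by
  obtain ⟨A, hA⟩ := exists_subgroup (Set.range f) ⟨_, ⟨0, hm⟩, rfl⟩ (by
    rintro _ ⟨i, rfl⟩ _ ⟨i', rfl⟩
    obtain ⟨i'', h⟩ := hf i i'
    exact ⟨i'', h.symm⟩)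
  obtain ⟨B, hB⟩ := exists_subgroup (Set.range g) ⟨_, ⟨0, hn⟩, rfl⟩ (by
    rintro _ ⟨i, rfl⟩ _ ⟨i', rfl⟩
    obtain ⟨i'', h⟩ := hg i i'
    exact ⟨i'', h.symm⟩)
  have hAf : ∀ i, f i ∈ A := fun i => by
    change f i ∈ (A : Set G)
    rw [hA]
    exact ⟨i, rfl⟩
  have hBg : ∀ i, g i ∈ B := fun i => by
    change g i ∈ (B : Set G)
    rw [hB]
    exact ⟨i, rfl⟩
  set T : Set G := Set.range fun x : Fin m × Fin n => f x.1 * g x.2 with hTdef
  obtain ⟨S, hS⟩ := exists_subgroup T ⟨_, ⟨⟨0, hm⟩, ⟨0, hn⟩⟩, rfl⟩ (by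
    rintro _ ⟨⟨i, j⟩, rfl⟩ _ ⟨⟨i', j'⟩, rfl⟩
    dsimp only
    obtain ⟨k, hk⟩ := hgf j i'
    obtain ⟨l, hl⟩ := hf i k
    obtain ⟨l', hl'⟩ := hg j j'
    refine ⟨⟨l, l'⟩, ?_⟩
    dsimp only
    calc f l * g l' = f i * (f k * g j) * g j' := by rw [← hl, ← hl']; group
      _ = f i * g j * (f i' * g j') := by rw [← hk]; group)
  have hinj : Function.Injective fun x : Fin m × Fin n => f x.1 * g x.2 := by
    rintro ⟨i, j⟩ ⟨i', j'⟩ h
    dsimp only at h
    have h2 : (f i')⁻¹ * f i = g j' * (g j)⁻¹ := by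
      calc (f i')⁻¹ * f i = (f i')⁻¹ * (f i * g j) * (g j)⁻¹ := by group
        _ = g j' * (g j)⁻¹ := by rw [h]; group
    have hmA : (f i')⁻¹ * f i ∈ (A : Set G) := A.mul_mem (A.inv_mem (hAf i')) (hAf i)
    have hmB : g j' * (g j)⁻¹ ∈ (B : Set G) := B.mul_mem (hBg j') (B.inv_mem (hBg j))
    rw [hA] at hmA
    rw [hB] at hmB
    obtain ⟨a, ha⟩ := hmA
    obtain ⟨b, hb⟩ := hmB
    have h3 := h1 a b (by rw [ha, hb, h2])
    rw [ha] at h3
    have h4 : f i = f i' := by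
      calc f i = f i' * ((f i')⁻¹ * f i) := by group
        _ = f i' := by rw [h3, mul_one]
    rw [h2] at h3
    have h5 : g j' = g j := by
      calc g j' = g j' * (g j)⁻¹ * g j := by group
        _ = g j := by rw [h3, one_mul]
    rw [hfi h4, hgi h5]
  refine ⟨S, ?_, ?_⟩
  · change Nat.card (S : Set G) = m * n
    rw [hS, hTdef, Nat.card_range_of_injective hinj, Nat.card_prod, Nat.card_eq_fintype_card, Nat.card_eq_fintype_card,
      Fintype.card_fin, Fintype.card_fin]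
  · intro s hs
    have : s ∈ (S : Set G) := hs
    rw [hS] at this
    obtain ⟨⟨i, j⟩, rfl⟩ := this
    exact ⟨i, j, rfl⟩

end grp

end Cfsg.Agent.H833.Spr4
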