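import Cfsg.Agent.H833.Spr4.Gen
import Cfsg.Agent.H380.TenRec.CaseL34

/-!
# S3938, `PSU_4(3)`: elements of order nine

`aut_l34` : `Aut(L_3(4))` has no element of order nine; `core_nine` : no element of order nine (modulo scalars) in the groups
with the socles `A_7` and `L_3(4)`.
-/

set_option autoImplicit false
set_option linter.unusedSectionVars false

namespace Cfsg.Agent.H833.Spr4

open Cfsg Cfsg.Geo Module Cfsg.Agent.H918 Cfsg.Agent.H251 Cfsg.Agent.H951 Cfsg.Agent.H834.Cov
open scoped Matrix MatrixGroups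

section aut

open Cfsg.Agent.ClassicalGeometry.AutPSL.Root Cfsg.Agent.ClassicalGeometry.AutPSL.Auto
open Cfsg.Agent.ClassicalGeometry.AutPSL.Main
open Cfsg.Agent.H380.TenRec.MatThree

theorem mon_cube {K : Type} [Field K] [Fintype K] (hK : Fintype.card K = 4) {M : Matrix (Fin 3) (Fin 3) K}
    (hM : Mon M) : ∃ r : K, M * M * M = Matrix.scalar (Fin 3) r := by
  obtain ⟨a, b, c, ha, hb, hc, h⟩ := hM
  have hsc : ∀ r : K, Matrix.scalar (Fin 3) r = dg r r r := by
    intro r
    ext i j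
    fin_cases i <;> fin_cases j <;> simp [dg, Matrix.scalar_apply]
  have ha3 := Cfsg.Agent.H380.TenRec.MatThree.pow_three hK ha
  have hb3 := Cfsg.Agent.H380.TenRec.MatThree.pow_three hK hb
  have hc3 := Cfsg.Agent.H380.TenRec.MatThree.pow_three hK hc
  rcases h with rfl | rfl | rfl
  · refine ⟨1, ?_⟩
    rw [hsc]
    simp only [dg_mul_dg]
    rw [show a * a * a = 1 by linear_combination ha3, show b * b * b = 1 by linear_combination hb3,
      show c * c * c = 1 by linear_combination hc3]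
  · refine ⟨a * b * c, ?_⟩
    rw [hsc]
    simp only [k1_mul_k1, k2_mul_k1]
    congr 1 <;> ring
  · refine ⟨a * b * c, ?_⟩
    rw [hsc]
    simp only [k2_mul_k2, k1_mul_k2]
    congr 1 <;> ring

/-- `Aut(L_3(4))` has no element of order nine -/
theorem aut_l34 {K : Type} [Field K] [Fintype K] (hK : Fintype.card K = 4)
    {x : MulAut (Matrix.ProjectiveSpecialLinearGroup (Fin 3) K)} (hx : x ^ 9 = 1) : x ^ 3 = 1 := by
  obtain ⟨A, rfl, hA⟩ := H380.TenRec.exists_cj hK hx
  obtain ⟨P, hP⟩ := exists_conj_mon hK A hA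
  obtain ⟨r, hr⟩ := mon_cube hK (mem_Q.1 hP)
  have h1 : (((P * A * P⁻¹) ^ 3 : GL (Fin 3) K) : Matrix (Fin 3) (Fin 3) K) = Matrix.scalar (Fin 3) r := by
    rw [← hr, pow_succ, pow_two]
    rfl
  have h2 : ((A ^ 3 : GL (Fin 3) K) : Matrix (Fin 3) (Fin 3) K) = Matrix.scalar (Fin 3) r := by
    have h3 : A ^ 3 = P⁻¹ * (P * A * P⁻¹) ^ 3 * P := by
      rw [conj_pow]
      group
    rw [h3, Units.val_mul, Units.val_mul, h1, (Matrix.scalar_commute r (fun _ => mul_comm _ _) _).symm.eq, mul_assoc,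
      ← Units.val_mul, inv_mul_cancel, Units.val_one, mul_one]
  rw [← map_pow, ← map_pow, cj_eq_one_of_scalar h2.symm, map_one]

end aut

section core

variable {F : Type} [Field F] [Fintype F]

/-- no element of order nine modulo scalars -/
theorem core_nine {H P : Subgroup (GL (Fin 4) F)} (hP : IsResidualCore H P)
    (e : Nonempty ((P ⧸ (scalars (Fin 4) F).subgroupOf P) ≃* alternatingGroup (Fin 7)) ∨
      ∃ (K : Type) (_ : Field K) (_ : Fintype K), Fintype.card K = 4 ∧
        Nonempty ((P ⧸ (scalars (Fin 4) F).subgroupOf P) ≃* Matrix.ProjectiveSpecialLinearGroup (Fin 3) K))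
    {u : GL (Fin 4) F} (hu : u ∈ H) (h9 : u ^ 9 ∈ scalars (Fin 4) F) (h3 : u ^ 3 ∉ scalars (Fin 4) F) : False := by
  set c : H ⧸ (scalars (Fin 4) F).subgroupOf H := QuotientGroup.mk' _ ⟨u, hu⟩ with hc
  have hpow : ∀ k : ℕ, c ^ k = 1 ↔ u ^ k ∈ scalars (Fin 4) F := by
    intro k
    rw [hc, ← map_pow]
    change (QuotientGroup.mk _ : H ⧸ (scalars (Fin 4) F).subgroupOf H) = 1 ↔ _
    rw [QuotientGroup.eq_one_iff, Subgroup.mem_subgroupOf]
    rfl
  have hc9 : c ^ 9 = 1 := (hpow 9).2 h9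
  have hc3 : c ^ 3 ≠ 1 := fun h => h3 ((hpow 3).1 h)
  have hord : orderOf c = 9 := by
    have hp3 : Fact (Nat.Prime 3) := ⟨Nat.prime_three⟩
    have := orderOf_eq_prime_pow (x := c) (p := 3) (n := 1) (by simpa using hc3) (by simpa using hc9)
    simpa using this
  rcases e with e | ⟨K, i1, i2, hK, ⟨e⟩⟩
  · have := (core_alt7 hP e hu (m := 9) (Or.inr rfl) fun k hk => by
      rw [← hord]
      exact orderOf_dvd_of_pow_eq_one ((hpow k).2 hk)).1
    omega
  · obtain ⟨φ, hφ⟩ := H900.SU4.exists_core_inj hP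
    set θ : (H ⧸ (scalars (Fin 4) F).subgroupOf H) →* MulAut (Matrix.ProjectiveSpecialLinearGroup (Fin 3) K) :=
      (MulAut.congr e).toMonoidHom.comp φ with hθ
    have hθi : Function.Injective θ := (MulAut.congr e).injective.comp hφ
    apply hc3
    apply hθi
    rw [map_pow, map_one]
    apply aut_l34 hK
    rw [← map_pow, hc9, map_one]

end core

end Cfsg.Agent.H833.Spr4
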