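import Cfsg.Agent.H833.Spr4.Code
import Cfsg.Agent.H833.Spr4.Nine
import Cfsg.Agent.H833.Spr4.Grp
import Cfsg.Agent.H740.Cyc.PSUAut

/-!
# S3938, `PSU_4(3)`: coded automorphisms

`au a e` : the automorphism of `PSU_4(3)` given by the unitary matrix with code `a` and the field automorphism `rr e`.
-/

set_option autoImplicit false

namespace Cfsg.Agent.H833.Spr4.Code

open Cfsg Cfsg.Agent.ChevalleyStructure.NineField Cfsg.Agent.LieClassical
  Cfsg.Agent.ClassicalGeometry.PSUAutCount Cfsg.Agent.ClassicalGeometry.UnitAutBasic Cfsg.Agent.LieClassical.HermSiegel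
  Cfsg.Agent.LieClassical.FieldTransfer
open scoped Matrix MatrixGroups

theorem hF9 : Fintype.card F9 = 3 ^ 2 := by decide +kernel

theorem cj_eq : ∀ x : F9, cj x = x ^ 3 := by decide +kernel

theorem cj_cj : ∀ x : F9, cj (cj x) = x := by decide +kernel

/-- unitary codes -/
def Uni (a : ℕ) : Prop := dM a * dM (ctr a) = 1

/-- test for unitary codes -/
def isU (a : ℕ) : Bool := Nat.beq (mm a (ctr a)) (sK 1)

theorem isU_spec {a : ℕ} (h : isU a = true) : Uni a := by
  rw [isU, Nat.beq_eq] at h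
  rw [Uni, ← dM_mm, h, dM_one]

theorem map_frob (M : Matrix (Fin 4) (Fin 4) F9) : M.map (GUOrder.frob hF9) = M.map cj := by
  refine Matrix.ext fun i j => ?_
  change (M i j) ^ 3 = cj (M i j)
  rw [cj_eq]

theorem uni_iff (a : ℕ) : Uni a ↔ (∀ u v : Fin 4 → F9, hermForm 4 F9 3 (dM a *ᵥ u) (dM a *ᵥ v) = hermForm 4 F9 3 u v) := by
  rw [GUOrder.mul_map_eq_one_iff hF9, map_frob, Uni, dM_ctr, mul_eq_one_comm]
  constructor
  · intro h
    have h1 := congrArg Matrix.transpose h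
    rwa [Matrix.transpose_mul, Matrix.transpose_transpose, Matrix.transpose_one] at h1
  · intro h
    have h1 := congrArg Matrix.transpose h
    rwa [Matrix.transpose_mul, Matrix.transpose_transpose, Matrix.transpose_one] at h1

/-- the unitary element with a given code -/
noncomputable def gu (a : ℕ) (h : Uni a) : Cfsg.GU 4 F9 3 := GUOrder.mkGU hF9 (dM a) ((uni_iff a).1 h)

theorem gm_gu {a : ℕ} (h : Uni a) : gm (gu a h) = dM a := rfl

theorem gm_gu_inv {a : ℕ} (h : Uni a) : gm (gu a h)⁻¹ = dM (ctr a) := by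
  have h1 := gm_inv_mul (gu a h)
  rw [gm_gu] at h1
  calc gm (gu a h)⁻¹ = gm (gu a h)⁻¹ * (dM a * dM (ctr a)) := by rw [show dM a * dM (ctr a) = 1 from h, mul_one]
    _ = dM (ctr a) := by rw [← mul_assoc, h1, one_mul]

/-- the field automorphisms -/
def rr : ℕ → (F9 ≃+* F9)
  | 0 => 1
  | _ + 1 => cj

/-- the action of the field automorphisms on codes -/
def cc : ℕ → ℕ → ℕ
  | 0, b => b
  | _ + 1, b => cjc b

theorem dM_cc (e b : ℕ) : dM (cc e b) = (dM b).map (rr e) := by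
  cases e with
  | zero => rfl
  | succ e => exact dM_cjc b

theorem rr_mul {e f : ℕ} (he : e < 2) (hf : f < 2) : rr e * rr f = rr ((e + f) % 2) := by
  interval_cases e <;> interval_cases f
  · rfl
  · rfl
  · rfl
  · ext x : 1
    exact cj_cj x

theorem rr_inj {e f : ℕ} (he : e < 2) (hf : f < 2) (h : rr e = rr f) : e = f := by
  have h0 : ∃ x : F9, cj x ≠ x := by decide +kernel
  obtain ⟨x, hx⟩ := h0
  interval_cases e <;> interval_cases f
  · rfl
  · exact absurd (congrArg (fun r : F9 ≃+* F9 => r x) h).symm hx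
  · exact absurd (congrArg (fun r : F9 ≃+* F9 => r x) h) hx
  · rfl

theorem exists_rr (r : F9 ≃+* F9) : ∃ e, e < 2 ∧ r = rr e := by
  have h0 : ∀ x y : F9, (∀ z : F9, z = z) → x ^ 2 = -1 → y ^ 2 = -1 → x = y ∨ x = cj y := by decide +kernel
  have h1 : ∃ x : F9, x ^ 2 = -1 ∧ ∀ z : F9, ∃ a b : ZMod 3, z = (a.val : F9) + (b.val : F9) * x := by decide +kernel
  obtain ⟨x, hx, hz⟩ := h1
  have h2 : (r x) ^ 2 = -1 := by rw [← map_pow, hx, map_neg, map_one]
  rcases h0 (r x) x (fun _ => rfl) h2 hx with h | h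
  · refine ⟨0, by norm_num, ?_⟩
    ext z : 1
    obtain ⟨a, b, rfl⟩ := hz z
    rw [map_add, map_mul, map_natCast, map_natCast, h]
    rfl
  · refine ⟨1, by norm_num, ?_⟩
    ext z : 1
    obtain ⟨a, b, rfl⟩ := hz z
    change r _ = cj _
    rw [map_add, map_mul, map_natCast, map_natCast, h, map_add, map_mul, map_natCast, map_natCast]

open Classical in
/-- coded automorphisms -/
noncomputable def au (a e : ℕ) : MulAut (PSU 4 F9 3) := if h : Uni a then toAut (gu a h) (rr e) else 1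

theorem au_def {a : ℕ} (h : Uni a) (e : ℕ) : au a e = toAut (gu a h) (rr e) := by
  rw [au, dif_pos h]

theorem uni_mm {a b : ℕ} (ha : Uni a) (hb : Uni b) (e : ℕ) : Uni (mm a (cc e b)) := by
  obtain ⟨C, hC, -⟩ := H740.Cyc.exists_comp hF9 (gu a ha) (gu b hb) (rr e) 1
  rw [gm_gu, gm_gu, ← dM_cc, ← dM_mm] at hC
  rw [uni_iff, ← hC]
  exact C.2

theorem au_mul {a b e f : ℕ} (ha : Uni a) (hb : Uni b) (he : e < 2) (hf : f < 2) :
    au a e * au b f = au (mm a (cc e b)) ((e + f) % 2) := by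
  obtain ⟨C, hC, h⟩ := H740.Cyc.exists_comp hF9 (gu a ha) (gu b hb) (rr e) (rr f)
  rw [gm_gu, gm_gu, ← dM_cc, ← dM_mm] at hC
  rw [au_def ha, au_def hb, ← h, au_def (uni_mm ha hb e), rr_mul he hf]
  congr 1
  exact gm_inj hC

theorem au_eq {a b e f : ℕ} (ha : Uni a) (hb : Uni b) (he : e < 2) (hf : f < 2) (h : au a e = au b f) :
    e = f ∧ ∃ c : F9, dM b = c • dM a := by
  rw [au_def ha, au_def hb] at h
  obtain ⟨h1, c, -, h2⟩ := eq_of_toAut_eq hF9 (by norm_num) h
  exact ⟨(rr_inj hf he h1).symm, c, h2⟩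

theorem au_smul {a b : ℕ} (e : ℕ) (ha : Uni a) (hb : Uni b) {c : F9} (hc : c * c ^ 3 = 1) (h : dM b = c • dM a) :
    au b e = au a e := by
  rw [au_def ha, au_def hb, ← toAut_sc_mul ⟨c, hc⟩ (gu a ha)]
  congr 1
  apply gm_inj
  rw [gm_sc_mul, gm_gu, gm_gu, h]

theorem smul_uni {a b : ℕ} (ha : Uni a) (hb : Uni b) {c : F9} (h : dM b = c • dM a) : c * c ^ 3 = 1 := by
  have h1 := (GUOrder.mul_map_eq_one_iff hF9 _).1 ((uni_iff a).1 ha)
  have h2 := (GUOrder.mul_map_eq_one_iff hF9 _).1 ((uni_iff b).1 hb)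
  have h3 : (c • dM a).map (GUOrder.frob hF9) = c ^ 3 • (dM a).map (GUOrder.frob hF9) := by
    refine Matrix.ext fun i j => ?_
    simp only [Matrix.map_apply, Matrix.smul_apply, smul_eq_mul, map_mul]
    rfl
  rw [h, h3, Matrix.transpose_smul, Matrix.smul_mul, Matrix.mul_smul, h1, smul_smul] at h2
  have h4 := congrFun (congrFun h2 0) 0
  rwa [Matrix.smul_apply, Matrix.one_apply_eq, smul_eq_mul, mul_one] at h4

theorem uni_one : Uni (sK 1) := by
  rw [Uni, dM_ctr, dM_one, Matrix.map_one _ (map_zero _) (map_one _), Matrix.transpose_one, mul_one]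

theorem au_one : au (sK 1) 0 = 1 := by
  rw [au_def uni_one, ← H740.Cyc.toAut_one_one]
  congr 1
  apply gm_inj
  rw [gm_gu, dM_one, gm_one]

/-- every automorphism is coded -/
theorem exists_au (α : MulAut (PSU 4 F9 3)) : ∃ (A : Cfsg.GU 4 F9 3) (e : ℕ), e < 2 ∧ α = toAut A (rr e) := by
  obtain ⟨A, r, h⟩ := ClassicalGeometry.PSUAutMain.exists_toAut hF9 (by norm_num) (by norm_num) α
  obtain ⟨e, he, rfl⟩ := exists_rr r
  exact ⟨A, e, he, h⟩

end Cfsg.Agent.H833.Spr4.Code
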