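import Cfsg.Agent.H834.Cov.Blk
import Cfsg.Agent.H424.Spr.Two
import Cfsg.Agent.H918.UProper
import Cfsg.Agent.S0283
import Cfsg.Agent.StandardComponent.AltAut

/-!
# S3938, `PSU_4(q)`: tools

* `spr_one_of`, `spr_two_of` : the criteria `U1`, `U2` in `GL_n(q²)`, for maximal subgroups of `SU_n(q)`;
* `hna_psu` : `PSU_n(q)` is not commutative;
* `perm_seven` : elements of order divisible by 7 or 9 in `S_7`.
-/

set_option autoImplicit false
set_option linter.unusedSectionVars false

namespace Cfsg.Agent.H833.Spr4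

open Cfsg Cfsg.Geo Module Cfsg.Agent.H918 Cfsg.Agent.H251 Cfsg.Agent.H951 Cfsg.Agent.H834.Cov
open Cfsg.Agent.H424.Spr (Spr)
open scoped Matrix MatrixGroups

section crit

variable {F : Type} [Field F] [Fintype F] {n q : ℕ}

theorem hna_psu (hF : Fintype.card F = q ^ 2) (hn : 3 ≤ n) (h32 : ¬ (n = 3 ∧ q = 2)) [IsSimpleGroup (PSU n F q)] :
    ∃ x y : PSU n F q, x * y ≠ y * x := by
  by_contra hcon
  push Not at hcon
  have h1 := Cfsg.Agent.LieClassical.HermPerfect.commutator_SU_eq_top hF hn h32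
  have h2 : commutator (Cfsg.SU n F q) ≤ Subgroup.center (Cfsg.SU n F q) := by
    rw [commutator_def, Subgroup.commutator_le]
    intro g _ h _
    rw [← QuotientGroup.eq_one_iff, commutatorElement_def]
    change (QuotientGroup.mk' (Subgroup.center (Cfsg.SU n F q))) (g * h * g⁻¹ * h⁻¹) = 1
    rw [map_mul, map_mul, map_mul, map_inv, map_inv, hcon _ ((QuotientGroup.mk' _) h)]
    group
  rw [h1] at h2
  obtain ⟨x, hx⟩ := exists_ne (1 : PSU n F q)
  obtain ⟨y, rfl⟩ := QuotientGroup.mk_surjective x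
  exact hx ((QuotientGroup.eq_one_iff y).2 (h2 (Subgroup.mem_top _)))

/-- the proper subgroups of `SU_n(q)` through `s` are in one of the groups `M i` -/
theorem cover_of {s : Cfsg.SU n F q} {ι : Type} {M : ι → Subgroup (GL (Fin n) F)}
    (h : ∀ H, IsMaximalIn (SUg n F q) H → suHom n F q s ∈ H → ∃ i, H ≤ M i) (K : Subgroup (Cfsg.SU n F q))
    (hs : s ∈ K) (hK : K ≠ ⊤) : ∃ i, K ≤ (M i).comap (suHom n F q) := by
  have hfin : Finite (Cfsg.SU n F q) := inferInstance
  obtain ⟨N, hN, hKN⟩ := (eq_top_or_exists_le_coatom K).resolve_left hK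
  obtain ⟨i, hi⟩ := h _ (isMaximalIn_map suHom_injective range_suHom hN) ⟨s, hKN hs, rfl⟩
  exact ⟨i, hKN.trans (Subgroup.map_le_iff_le_comap.1 hi)⟩

theorem ker_le_of [IsSimpleGroup (PSU n F q)] (hna : ∃ x y : PSU n F q, x * y ≠ y * x) (s : Cfsg.SU n F q) :
    Subgroup.zpowers s ⊔ Subgroup.center (Cfsg.SU n F q) ≠ ⊤ := by
  intro htop
  obtain ⟨x, y, hxy⟩ := hna
  apply hxy
  have h1 : ∀ z : PSU n F q, z ∈ Subgroup.zpowers (QuotientGroup.mk' (Subgroup.center (Cfsg.SU n F q)) s) := by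
    intro z
    obtain ⟨w, rfl⟩ := QuotientGroup.mk'_surjective _ z
    have h2 : w ∈ Subgroup.zpowers s ⊔ Subgroup.center (Cfsg.SU n F q) := by rw [htop]; trivial
    rw [Subgroup.mem_sup_of_normal_right] at h2
    obtain ⟨a, ⟨k, rfl⟩, b, hb, rfl⟩ := h2
    rw [map_mul]
    have h3 : (QuotientGroup.mk' (Subgroup.center (Cfsg.SU n F q))) b = 1 := (QuotientGroup.eq_one_iff b).2 hb
    rw [h3, mul_one, map_zpow]
    exact Subgroup.zpow_mem _ (Subgroup.mem_zpowers _) _
  obtain ⟨i, rfl⟩ := h1 x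
  obtain ⟨j, rfl⟩ := h1 y
  exact ((Commute.refl _).zpow_zpow i j)

/-- **U1 for `PSU_n(q)`** -/
theorem spr_one_of (hF : Fintype.card F = q ^ 2) (hn : 3 ≤ n) (h32 : ¬ (n = 3 ∧ q = 2)) {s : GL (Fin n) F}
    (hs : s ∈ SUg n F q) {M : Subgroup (GL (Fin n) F)} (hM : ¬ SUg n F q ≤ M)
    (h : ∀ H, IsMaximalIn (SUg n F q) H → s ∈ H → H ≤ M) : Spr (PSU n F q) := by
  have hfin : Finite (Cfsg.SU n F q) := inferInstance
  have hsim := Cfsg.Agent.S0283.result hF n hn h32
  have hna := hna_psu hF hn h32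
  obtain ⟨s', rfl⟩ := exists_suHom hs
  have key : ∀ K : Subgroup (Cfsg.SU n F q), s' ∈ K → K ≠ ⊤ → K ≤ M.comap (suHom n F q) := by
    intro K hsK hK
    obtain ⟨-, hi⟩ := cover_of (ι := Unit) (M := fun _ => M) (fun H hH hsH => ⟨(), h H hH hsH⟩) K hsK hK
    exact hi
  refine H424.Spr.spr_of_one_up (G := Cfsg.SU n F q) hna (QuotientGroup.mk' _) (QuotientGroup.mk'_surjective _) (s := s')
    (M := M.comap (suHom n F q)) ?_ ?_ ?_
  · rw [QuotientGroup.ker_mk']
    exact le_sup_right.trans (key _ (Subgroup.mem_sup_left (Subgroup.mem_zpowers s')) (ker_le_of hna s'))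
  · intro htop
    apply hM
    rw [← range_suHom]
    rintro _ ⟨A, rfl⟩
    have : A ∈ M.comap (suHom n F q) := by rw [htop]; trivial
    exact this
  · intro K _ hsK hK
    exact key K hsK hK

end crit

section perm

theorem perm_seven (y : Equiv.Perm (Fin 7)) {m : ℕ} (hm : m ∣ orderOf y) (h : m = 7 ∨ m = 9) :
    m = 7 ∧ orderOf y = 7 := by
  have h0 : m ∣ y.cycleType.lcm := by rwa [Equiv.Perm.lcm_cycleType]
  have hsum : y.cycleType.sum ≤ 7 := by
    have := Equiv.Perm.sum_cycleType y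
    rw [this]
    exact (Finset.card_le_univ _).trans (by simp)
  -- a prime power divides a part
  have hpart : ∃ k ∈ y.cycleType, m ∣ k := by
    have hpp : ∃ p a : ℕ, p.Prime ∧ m = p ^ a := by
      rcases h with rfl | rfl
      · exact ⟨7, 1, by norm_num, by norm_num⟩
      · exact ⟨3, 2, by norm_num, by norm_num⟩
    obtain ⟨p, a, hp, rfl⟩ := hpp
    have hcyc : ∀ s : Multiset ℕ, (0 ∉ s) → p ^ a ∣ s.lcm → a = 0 ∨ ∃ k ∈ s, p ^ a ∣ k := by
      intro s
      induction s using Multiset.induction_on with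
      | empty =>
        intro _ h1
        left
        rw [Multiset.lcm_zero] at h1
        have := Nat.dvd_one.1 h1
        rcases Nat.pow_eq_one.1 this with h2 | h2
        · exact absurd h2 hp.one_lt.ne'
        · exact h2
      | cons b s ih =>
        intro hb h1
        rw [Multiset.lcm_cons] at h1
        have hb0 : b ≠ 0 := fun h => hb (by rw [h]; exact Multiset.mem_cons_self _ _)
        have hs0 : 0 ∉ s := fun h => hb (Multiset.mem_cons_of_mem h)
        have h2 : p ^ a ∣ b ∨ p ^ a ∣ s.lcm := by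
          have hl0 : s.lcm ≠ 0 := by
            rw [Ne, Multiset.lcm_eq_zero_iff]
            exact hs0
          rw [hp.pow_dvd_iff_le_factorization hb0, hp.pow_dvd_iff_le_factorization hl0]
          have h3 : Nat.lcm b s.lcm ≠ 0 := Nat.lcm_ne_zero hb0 hl0
          have h4 := (hp.pow_dvd_iff_le_factorization h3).1 h1
          rw [Nat.factorization_lcm hb0 hl0] at h4
          rwa [Finsupp.sup_apply, le_sup_iff] at h4
        rcases h2 with h2 | h2
        · exact Or.inr ⟨b, Multiset.mem_cons_self _ _, h2⟩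
        · rcases ih hs0 h2 with h3 | ⟨k, hk, h3⟩
          · exact Or.inl h3
          · exact Or.inr ⟨k, Multiset.mem_cons_of_mem hk, h3⟩
    rcases hcyc _ (fun h1 => by have := Equiv.Perm.two_le_of_mem_cycleType h1; omega) h0 with h1 | h1
    · exfalso
      subst h1
      rw [pow_zero] at h
      omega
    · exact h1
  obtain ⟨k, hk, hmk⟩ := hpart
  have hk2 := Equiv.Perm.two_le_of_mem_cycleType hk
  have hkle : k ≤ y.cycleType.sum := Multiset.single_le_sum (fun _ _ => Nat.zero_le _) _ hk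
  have hmle := Nat.le_of_dvd (by omega) hmk
  rcases h with rfl | rfl
  · have hk7 : k = 7 := by
      obtain ⟨c, hc⟩ := hmk
      have : c = 1 := by nlinarith
      omega
    subst hk7
    refine ⟨rfl, ?_⟩
    obtain ⟨t, ht⟩ := Multiset.exists_cons_of_mem hk
    have ht0 : t = 0 := by
      rw [ht, Multiset.sum_cons] at hsum
      have hts : t.sum = 0 := by omega
      by_contra hne
      obtain ⟨b, hb⟩ := Multiset.exists_mem_of_ne_zero hne
      have hb2 : 2 ≤ b := Equiv.Perm.two_le_of_mem_cycleType (σ := y) (by rw [ht]; exact Multiset.mem_cons_of_mem hb)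
      have : b ≤ t.sum := Multiset.single_le_sum (fun _ _ => Nat.zero_le _) _ hb
      omega
    rw [← Equiv.Perm.lcm_cycleType, ht, ht0]
    rfl
  · omega

end perm

end Cfsg.Agent.H833.Spr4
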