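import Cfsg.Agent.H833.Spr4.Cert

/-!
# S3938, `PSU_4(3)`: coded groups of automorphisms

`cgrp` : the subgroup of order `m n` given by two coded groups.
-/

set_option autoImplicit false

namespace Cfsg.Agent.H833.Spr4.Code

open Cfsg Cfsg.Geo Module Cfsg.Agent.ChevalleyStructure.NineField Cfsg.Agent.LieClassical
  Cfsg.Agent.ClassicalGeometry.PSUAutCount Cfsg.Agent.ClassicalGeometry.UnitAutBasic Cfsg.Agent.LieClassical.HermSiegel
  Cfsg.Agent.LieClassical.FieldTransfer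
open scoped Matrix MatrixGroups

/-- tables of matrices -/
def tM (T k : ℕ) : ℕ := Nat.mod (Nat.shiftRight T (Nat.mul 64 k)) 18446744073709551616
/-- tables of indices -/
def tI (T k : ℕ) : ℕ := Nat.mod (Nat.shiftRight T (Nat.mul 8 k)) 256

/-- all indices `a ≤ i < a + n` -/
def alla (p : ℕ → Bool) : ℕ → ℕ → Bool
  | _, 0 => true
  | a, n + 1 => p a && alla p (Nat.succ a) n

theorem alla_spec {p : ℕ → Bool} : ∀ {n a : ℕ}, alla p a n = true → ∀ {i : ℕ}, a ≤ i → i < a + n → p i = true := by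
  intro n
  induction n with
  | zero => intro a _ i h1 h2; omega
  | succ n ih =>
    intro a h i h1 h2
    rw [alla, Bool.and_eq_true] at h
    rcases Nat.eq_or_lt_of_le h1 with rfl | h3
    · exact h.1
    · exact ih h.2 h3 (by omega)

/-- `i` runs over `0 ≤ i < n` -/
theorem all_spec {p : ℕ → Bool} {n : ℕ} (h : alla p 0 n = true) {i : ℕ} (hi : i < n) : p i = true :=
  alla_spec h (Nat.zero_le _) (by omega)

/-- a linear functional -/
def ell (L R x : ℕ) : ℕ := en (mm (mm L x) R) 0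

theorem ell_eq {L R x y : ℕ} {c : F9} (hx : ell L R x = 1) (hy : ell L R y = 1) (h : dM y = c • dM x) :
    dM y = dM x := by
  have h1 : dM (mm (mm L x) R) 0 0 = d9 1 := by
    rw [dM_apply]
    exact congrArg d9 hx
  have h2 : dM (mm (mm L y) R) 0 0 = d9 1 := by
    rw [dM_apply]
    exact congrArg d9 hy
  have h3 : dM (mm (mm L y) R) = c • dM (mm (mm L x) R) := by
    rw [dM_mm, dM_mm, dM_mm, dM_mm, h, Matrix.mul_smul, Matrix.smul_mul]
  rw [h3, Matrix.smul_apply, h1, smul_eq_mul] at h2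
  have h4 : d9 1 = 1 := by decide +kernel
  rw [h4, mul_one] at h2
  rw [h, h2, one_smul]

/-- product check -/
def ckM (T : ℕ) (e : ℕ → ℕ) (I n i j : ℕ) : Bool :=
  Nat.beq (mm (tM T i) (cc (e i) (tM T j))) (tM T (tI I (Nat.add (Nat.mul n i) j)))

/-- the data of a coded group with twists -/
structure CG (T : ℕ) (e : ℕ → ℕ) (n L R : ℕ) : Prop where
  pos : 0 < n
  uni : ∀ i, i < n → Uni (tM T i)
  elt : ∀ i, i < n → e i < 2
  ell : ∀ i, i < n → ell L R (tM T i) = 1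
  ne : ∀ i, i < n → ∀ j, j < i → e i = e j → dM (tM T i) ≠ dM (tM T j)
  mul : ∀ i, i < n → ∀ j, j < n → ∃ k, k < n ∧ dM (mm (tM T i) (cc (e i) (tM T j))) = dM (tM T k) ∧
    (e i + e j) % 2 = e k

/-- the elements of a coded group -/
noncomputable def cg (T : ℕ) (e : ℕ → ℕ) (i : ℕ) : MulAut (PSU 4 F9 3) := au (tM T i) (e i)

variable {T n L R : ℕ} {e : ℕ → ℕ}

theorem au_congr {a b : ℕ} (ha : Uni a) (f : ℕ) (h : dM a = dM b) : au a f = au b f := by
  have hb : Uni b := by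
    rw [uni_iff, ← h, ← uni_iff]
    exact ha
  refine (au_smul f ha hb (c := 1) (by norm_num) (by rw [h, one_smul])).symm

theorem CG.inj (h : CG T e n L R) {i j : ℕ} (hi : i < n) (hj : j < n) (hij : cg T e i = cg T e j) : i = j := by
  obtain ⟨h1, c, h2⟩ := au_eq (h.uni i hi) (h.uni j hj) (h.elt i hi) (h.elt j hj) hij
  have h3 := ell_eq (h.ell i hi) (h.ell j hj) h2
  rcases lt_trichotomy i j with h4 | h4 | h4
  · exact absurd h3 (h.ne j hj i h4 h1.symm)
  · exact h4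
  · exact absurd h3.symm (h.ne i hi j h4 h1)

theorem CG.prod (h : CG T e n L R) {i j : ℕ} (hi : i < n) (hj : j < n) :
    ∃ k, k < n ∧ cg T e i * cg T e j = cg T e k := by
  obtain ⟨k, hk, h1, h2⟩ := h.mul i hi j hj
  refine ⟨k, hk, ?_⟩
  rw [cg, cg, cg, au_mul (h.uni i hi) (h.uni j hj) (h.elt i hi) (h.elt j hj), h2]
  exact au_congr (uni_mm (h.uni i hi) (h.uni j hj) _) _ h1

/-- **the product of two coded groups** -/
theorem cgrp {T' n' : ℕ} {e' : ℕ → ℕ} (hA : CG T (fun _ => 0) n L R) (hB : CG T' e' n' L R)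
    (hBA : ∀ j, j < n' → ∀ i, i < n → ∃ k, k < n ∧ ∃ c : F9,
      dM (mm (tM T' j) (cc (e' j) (tM T i))) = c • dM (mm (tM T k) (tM T' j)))
    (h1 : ∀ i, i < n → ∀ j, j < n' → e' j = 0 → dM (tM T i) = dM (tM T' j) → dM (tM T i) = 1) :
    ∃ S : Subgroup (MulAut (PSU 4 F9 3)), Nat.card S = n * n' ∧
      ∀ s ∈ S, ∃ i j, i < n ∧ j < n' ∧ s = au (mm (tM T i) (tM T' j)) (e' j) := by
  have hfinP : Finite (PSU 4 F9 3) := Finite.of_surjective _ (pr_surjective (n := 4) (F := F9) (q := 3))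
  have hfinM : Finite (MulAut (PSU 4 F9 3)) :=
    Finite.of_injective (fun α : MulAut (PSU 4 F9 3) => (α : PSU 4 F9 3 → PSU 4 F9 3))
      (fun α β h => MulEquiv.ext fun x => congrFun h x)
  obtain ⟨S, hS, hS'⟩ := prod_subgroup hA.pos hB.pos (fun i : Fin n => cg T (fun _ => 0) i) (fun j : Fin n' => cg T' e' j)
    (fun i i' => by
      obtain ⟨k, hk, h⟩ := hA.prod i.2 i'.2
      exact ⟨⟨k, hk⟩, h⟩)
    (fun i i' => by
      obtain ⟨k, hk, h⟩ := hB.prod i.2 i'.2
      exact ⟨⟨k, hk⟩, h⟩)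
    (fun j i => by
      obtain ⟨k, hk, c, h⟩ := hBA j j.2 i i.2
      refine ⟨⟨k, hk⟩, ?_⟩
      have e1 : cg T' e' j * cg T (fun _ => 0) i = au (mm (tM T' j) (cc (e' j) (tM T i))) (e' j) := by
        rw [cg, cg, au_mul (hB.uni j j.2) (hA.uni i i.2) (hB.elt j j.2) (by norm_num), Nat.add_zero,
          Nat.mod_eq_of_lt (hB.elt j j.2)]
      have e2 : cg T (fun _ => 0) k * cg T' e' j = au (mm (tM T k) (tM T' j)) (e' j) := by
        rw [cg, cg, au_mul (hA.uni k hk) (hB.uni j j.2) (by norm_num) (hB.elt j j.2), Nat.zero_add,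
          Nat.mod_eq_of_lt (hB.elt j j.2)]
        rfl
      have hu1 := uni_mm (hB.uni j j.2) (hA.uni i i.2) (e' j)
      have hu2 := uni_mm (hA.uni k hk) (hB.uni j j.2) 0
      dsimp only
      rw [e1, e2]
      exact au_smul _ hu2 hu1 (smul_uni hu2 hu1 h) h)
    (fun i i' h => Fin.ext (hA.inj i.2 i'.2 h))
    (fun i i' h => Fin.ext (hB.inj i.2 i'.2 h))
    (fun i j h => by
      obtain ⟨h2, c, h3⟩ := au_eq (hA.uni i i.2) (hB.uni j j.2) (hA.elt i i.2) (hB.elt j j.2) h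
      have h4 := ell_eq (hA.ell i i.2) (hB.ell j j.2) h3
      have h5 := h1 i i.2 j j.2 h2.symm h4.symm
      change au (tM T i) 0 = 1
      rw [← au_one]
      exact au_congr (hA.uni i i.2) _ (h5.trans dM_one.symm))
  refine ⟨S, hS, fun s hs => ?_⟩
  obtain ⟨i, j, rfl⟩ := hS' s hs
  refine ⟨i, j, i.2, j.2, ?_⟩
  rw [cg, cg, au_mul (hA.uni i i.2) (hB.uni j j.2) (by norm_num) (hB.elt j j.2), Nat.zero_add,
    Nat.mod_eq_of_lt (hB.elt j j.2)]
  rfl

/-- the unitarity check -/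
def k1 (T : ℕ) (e : ℕ → ℕ) (L R i : ℕ) : Bool :=
  isU (tM T i) && (Nat.blt (e i) 2 && Nat.beq (ell L R (tM T i)) 1)

/-- the check that the elements are different -/
def k2 (T : ℕ) (e : ℕ → ℕ) (i : ℕ) : Bool :=
  alla (fun j => !(Nat.beq (e i) (e j)) || ne9 (tM T i) (tM T j)) 0 i

/-- the product check -/
def k3 (T : ℕ) (e : ℕ → ℕ) (n I i : ℕ) : Bool :=
  alla (fun j => Nat.beq (mm (tM T i) (cc (e i) (tM T j))) (tM T (tI I (Nat.add (Nat.mul n i) j))) &&
    (Nat.blt (tI I (Nat.add (Nat.mul n i) j)) n &&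
      Nat.beq (Nat.mod (Nat.add (e i) (e j)) 2) (e (tI I (Nat.add (Nat.mul n i) j))))) 0 n

theorem cg_of {I : ℕ} (h0 : 0 < n) (h1 : ∀ i, i < n → k1 T e L R i = true) (h2 : ∀ i, i < n → k2 T e i = true)
    (h3 : ∀ i, i < n → k3 T e n I i = true) : CG T e n L R where
  pos := h0
  uni i hi := by
    have h := h1 i hi
    rw [k1, Bool.and_eq_true, Bool.and_eq_true] at h
    exact isU_spec h.1
  elt i hi := by
    have h := h1 i hi
    rw [k1, Bool.and_eq_true, Bool.and_eq_true] at h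
    exact Nat.le_of_ble_eq_true h.2.1
  ell i hi := by
    have h := h1 i hi
    rw [k1, Bool.and_eq_true, Bool.and_eq_true, Nat.beq_eq] at h
    exact h.2.2
  ne i hi j hj he := by
    have h := all_spec (h2 i hi) hj
    rw [Bool.or_eq_true, Bool.not_eq_true', ← Bool.not_eq_true, Nat.beq_eq] at h
    exact ne9_spec (h.resolve_left fun h4 => h4 he)
  mul i hi j hj := by
    have h := all_spec (h3 i hi) hj
    rw [Bool.and_eq_true, Bool.and_eq_true, Nat.beq_eq, Nat.beq_eq] at h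
    exact ⟨_, Nat.le_of_ble_eq_true h.2.1, congrArg dM h.1, h.2.2⟩

/-- the second product check -/
def k4 (T T' : ℕ) (e' : ℕ → ℕ) (n K Q j : ℕ) : Bool :=
  alla (fun i => Nat.beq (mm (tM T' j) (cc (e' j) (tM T i)))
    (mm (sK (en Q (Nat.add (Nat.mul n j) i))) (mm (tM T (tI K (Nat.add (Nat.mul n j) i))) (tM T' j))) &&
    Nat.blt (tI K (Nat.add (Nat.mul n j) i)) n) 0 n

theorem k4_spec {T' K Q j : ℕ} {e' : ℕ → ℕ} (h : k4 T T' e' n K Q j = true) (i : ℕ) (hi : i < n) :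
    ∃ k, k < n ∧ ∃ c : F9, dM (mm (tM T' j) (cc (e' j) (tM T i))) = c • dM (mm (tM T k) (tM T' j)) := by
  have h := all_spec h hi
  rw [Bool.and_eq_true, Nat.beq_eq] at h
  refine ⟨_, Nat.le_of_ble_eq_true h.2, d9 (en Q (Nat.add (Nat.mul n j) i)), ?_⟩
  rw [h.1, dM_mm (sK _), sK_spec (en_lt _ _), Matrix.smul_mul, Matrix.one_mul]

/-- the intersection check -/
def k5 (T T' : ℕ) (e' : ℕ → ℕ) (n' i : ℕ) : Bool :=
  alla (fun j => !(Nat.beq (e' j) 0) || (ne9 (tM T i) (tM T' j) || Nat.beq (tM T i) (sK 1))) 0 n'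

theorem k5_spec {T' n' i : ℕ} {e' : ℕ → ℕ} (h : k5 T T' e' n' i = true) (j : ℕ) (hj : j < n') (he : e' j = 0)
    (hd : dM (tM T i) = dM (tM T' j)) : dM (tM T i) = 1 := by
  have h := all_spec h hj
  rw [Bool.or_eq_true, Bool.or_eq_true, Bool.not_eq_true', ← Bool.not_eq_true, Nat.beq_eq, Nat.beq_eq] at h
  rcases h with h | h | h
  · exact absurd he h
  · exact absurd hd (ne9_spec h)
  · rw [h, dM_one]

theorem finite_aut : Finite (MulAut (PSU 4 F9 3)) := by
  have hfinP : Finite (PSU 4 F9 3) := Finite.of_surjective _ (pr_surjective (n := 4) (F := F9) (q := 3))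
  exact Finite.of_injective (fun α : MulAut (PSU 4 F9 3) => (α : PSU 4 F9 3 → PSU 4 F9 3))
      (fun α β h => MulEquiv.ext fun x => congrFun h x)

theorem card_aut : Nat.card (MulAut (PSU 4 F9 3)) = 26127360 := by
  have hf : Fact (Nat.Prime 3) := ⟨Nat.prime_three⟩
  have hc := S0280.result (F := F9) (q := 3) hF9 4 (by norm_num)
  rw [Cfsg.Agent.S0815.result (F := F9) 3 1 le_rfl (q := 3) (by norm_num) hF9 4 (by norm_num) (by norm_num)]
  simp only [Finset.prod_range_succ, Finset.prod_range_zero] at hc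
  generalize Nat.card (PSU 4 F9 3) = N at hc ⊢
  have h1 : Nat.gcd 4 (3 + 1) = 4 := by decide
  rw [h1] at hc ⊢
  norm_num at hc
  have h2 : (if Even (3 + 1) then (80 : ℕ) else 82) = 80 := by decide
  omega

theorem conj_facts {G : Type*} [Group G] {r : ℕ} (hr : r.Prime) {α : G} (h : orderOf α = r) (g : G) :
    (g⁻¹ * α * g) ^ r = 1 ∧ g⁻¹ * α * g ≠ 1 := by
  have h1 : (g⁻¹ * α * g) ^ r = g⁻¹ * α ^ r * g := by
    have := conj_pow (a := g⁻¹) (b := α) (i := r)
    rwa [inv_inv] at this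
  refine ⟨by rw [h1, ← h, pow_orderOf_eq_one]; group, fun h2 => ?_⟩
  have h3 : α = 1 := by
    calc α = g * (g⁻¹ * α * g) * g⁻¹ := by group
      _ = 1 := by rw [h2]; group
  rw [h3, orderOf_one] at h
  exact hr.one_lt.ne h

/-- powers -/
def pwc (X : ℕ) : ℕ → ℕ
  | 0 => sK 1
  | k + 1 => mm (pwc X k) X

theorem dM_pwc (X k : ℕ) : dM (pwc X k) = dM X ^ k := by
  induction k with
  | zero => rw [pwc, dM_one, pow_zero]
  | succ k ih => rw [pwc, dM_mm, ih, pow_succ]

/-- the check of the elements of order seven -/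
def kD (X V P J w : ℕ) : Bool := tS (tM X w) (tM V w) && Nat.beq (tM P w) (pwc (tM X w) (en J w))

theorem kD_spec {X V P J w : ℕ} (h : kD X V P J w = true) :
    Sev (tM X w) (tM V w) ∧ ∃ i, dM (tM P w) = dM (tM X w) ^ i := by
  rw [kD, Bool.and_eq_true, Nat.beq_eq] at h
  exact ⟨tS_spec h.1, _, by rw [h.2, dM_pwc]⟩

/-- an element with trivial square, or a certificate -/
def k6 (a e X V P w : ℕ) : Bool :=
  nS (mm a (cc e a)) || ((Nat.beq e 0 && isS a) || cert a e (tM X w) (tM V w) (tM P w))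

/-- an element with trivial cube, or a certificate -/
def k7 (a X V P w : ℕ) : Bool :=
  nS (cb a) || (isS a || cert a 0 (tM X w) (tM V w) (tM P w))

theorem au_scalar {a : ℕ} (ha : Uni a) (h : isS a = true) : au a 0 = 1 := by
  obtain ⟨c, hc⟩ := isS_spec h
  rw [← au_one]
  rw [← dM_one] at hc
  exact au_smul 0 uni_one ha (smul_uni uni_one ha hc) hc

theorem not_one_of_nS {a e : ℕ} (ha : Uni a) (he : e < 2) (h : nS a = true) : au a e ≠ 1 := by
  intro h1
  rw [← au_one] at h1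
  obtain ⟨-, c, h2⟩ := au_eq uni_one ha (by norm_num) he h1.symm
  rw [dM_one] at h2
  exact nS_spec h c h2

theorem k6_spec (hR : ResList F9 3) {a e X V P J w : ℕ} (ha : Uni a) (he : e < 2) (hD : kD X V P J w = true)
    (h : k6 a e X V P w = true) (h2 : au a e ^ 2 = 1) (h1 : au a e ≠ 1) : Good (au a e) := by
  obtain ⟨hS, hP⟩ := kD_spec hD
  rw [k6, Bool.or_eq_true, Bool.or_eq_true, Bool.and_eq_true, Nat.beq_eq] at h
  rcases h with h | ⟨h3, h4⟩ | h
  · exfalso
    rw [pow_two, au_mul ha ha he he] at h2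
    exact not_one_of_nS (uni_mm ha ha e) (Nat.mod_lt _ (by norm_num)) h h2
  · subst h3
    exact absurd (au_scalar ha h4) h1
  · rw [au_def ha]
    exact good_of_cert hR (gm_gu ha) hS hP h

theorem k7_spec (hR : ResList F9 3) {a X V P J w : ℕ} (ha : Uni a) (hD : kD X V P J w = true)
    (h : k7 a X V P w = true) (h2 : au a 0 ^ 3 = 1) (h1 : au a 0 ≠ 1) : Good (au a 0) := by
  obtain ⟨hS, hP⟩ := kD_spec hD
  rw [k7, Bool.or_eq_true, Bool.or_eq_true] at h
  rcases h with h | h4 | h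
  · exfalso
    have e1 : au a 0 ^ 3 = au (cb a) 0 := by
      rw [pow_succ', pow_two, au_mul ha ha (by norm_num) (by norm_num), au_mul ha (uni_mm ha ha 0) (by norm_num) (by norm_num)]
      rfl
    rw [e1] at h2
    exact not_one_of_nS (uni_mm ha (uni_mm ha ha 0) 0) (by norm_num) h h2
  · exact absurd (au_scalar ha h4) h1
  · rw [au_def ha]
    exact good_of_cert hR (gm_gu ha) hS hP h

end Cfsg.Agent.H833.Spr4.Code
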