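import Cfsg.Agent.H833.Spr4.Au

/-!
# S3938, `PSU_4(3)`: certificates

`good_of_cert` : a certificate for one automorphism.
-/

set_option autoImplicit false

namespace Cfsg.Agent.H833.Spr4.Code

open Cfsg Cfsg.Geo Module Cfsg.Agent.ChevalleyStructure.NineField Cfsg.Agent.LieClassical
  Cfsg.Agent.ClassicalGeometry.PSUAutCount Cfsg.Agent.ClassicalGeometry.UnitAutBasic Cfsg.Agent.LieClassical.HermSiegel
  Cfsg.Agent.LieClassical.FieldTransfer
open Cfsg.Agent.H918 Cfsg.Agent.H251 Cfsg.Agent.H951 Cfsg.Agent.H834.Cov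
open scoped Matrix MatrixGroups

/-- elements of order seven with a matrix of fixed vectors -/
structure Sev (X V : ℕ) : Prop where
  uni : Uni X
  pow : dM X ^ 7 = 1
  ne : dM X ≠ 1
  fix : dM X * dM V = dM V

/-- the cube -/
def cb (u : ℕ) : ℕ := mm u (mm u u)

theorem dM_cb (u : ℕ) : dM (cb u) = dM u ^ 3 := by
  rw [cb, dM_mm, dM_mm, pow_succ', pow_two]

/-- test for `Sev` -/
def tS (X V : ℕ) : Bool :=
  isU X && (ne9 X (sK 1) && (Nat.beq (mm X V) V && Nat.beq (mm X (mm (cb X) (cb X))) (sK 1)))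

theorem tS_spec {X V : ℕ} (h : tS X V = true) : Sev X V := by
  rw [tS, Bool.and_eq_true, Bool.and_eq_true, Bool.and_eq_true, Nat.beq_eq, Nat.beq_eq] at h
  obtain ⟨h1, h2, h3, h4⟩ := h
  refine ⟨isU_spec h1, ?_, ?_, ?_⟩
  · have h5 := congrArg dM h4
    rw [dM_mm, dM_mm, dM_cb, dM_one] at h5
    rw [← h5]
    noncomm_ring
  · have := ne9_spec h2
    rwa [dM_one] at this
  · rw [← dM_mm, h3]

/-- the image of `X` -/
def Yc (a e X : ℕ) : ℕ := mm (mm a (cc e X)) (ctr a)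

/-- the certificate -/
def cert (a e X V P : ℕ) : Bool :=
  isS (cb (cb (mm P (Yc a e X)))) && (nS (cb (mm P (Yc a e X))) && ne9 (mm (Yc a e X) V) V)

theorem det_one {X V : ℕ} (h : Sev X V) : (dM X).det = 1 := by
  have h1 : (dM X).det ^ 7 = 1 := by rw [← Matrix.det_pow, h.pow, Matrix.det_one]
  have h0 : (dM X).det ≠ 0 := by
    intro h2
    rw [h2] at h1
    norm_num at h1
  have h2 := FiniteField.pow_card_sub_one_eq_one (dM X).det h0
  rw [hF9] at h2
  have h3 : (dM X).det ^ (3 ^ 2 - 1) = (dM X).det ^ 7 * (dM X).det := by norm_num; ring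
  rw [h3, h1, one_mul] at h2
  exact h2

theorem ord_q : orderOf (-((3 : ℕ) : ZMod 7)) = 3 := by
  have hp : Fact (Nat.Prime 3) := ⟨Nat.prime_three⟩
  apply orderOf_eq_prime
  · decide
  · decide

theorem ord_q2 : orderOf (((3 ^ 2 : ℕ) : ZMod 7)) = 3 := by
  have hp : Fact (Nat.Prime 3) := ⟨Nat.prime_three⟩
  apply orderOf_eq_prime
  · decide
  · decide

theorem div_iff (k : ℕ) : 7 ∣ 3 ^ k - 1 ↔ 2 * 3 * 1 ∣ k := by
  have h1 : 1 ≤ 3 ^ k := Nat.one_le_pow _ _ (by norm_num)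
  rw [← Nat.modEq_iff_dvd' h1, ← ZMod.natCast_eq_natCast_iff]
  have h6 : orderOf (3 : ZMod 7) = 6 := by
    apply (orderOf_eq_iff (by norm_num)).2
    refine ⟨by decide, ?_⟩
    intro m hm h0
    interval_cases m <;> decide
  rw [show 2 * 3 * 1 = orderOf (3 : ZMod 7) by rw [h6], orderOf_dvd_iff_pow_eq_one]
  push_cast
  exact eq_comm

theorem good_of_cert (hR : ResList F9 3) {A : Cfsg.GU 4 F9 3} {a e X V P : ℕ} (hA : gm A = dM a) (hX : Sev X V)
    (hP : ∃ i, dM P = dM X ^ i) (hc : cert a e X V P = true) : Good (toAut A (rr e)) := by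
  classical
  have ha : Uni a := by rw [uni_iff, ← hA]; exact A.2
  have hAg : A = gu a ha := gm_inj hA
  subst hAg
  have hfin : Finite (Cfsg.SU 4 F9 3) := inferInstance
  have hisoX := (uni_iff X).1 hX.uni
  set x : Cfsg.SU 4 F9 3 := ⟨⟨dM X, det_one hX⟩, hisoX⟩ with hx
  have hxm : mat x = dM X := rfl
  set y : Cfsg.SU 4 F9 3 := semiConj (gu a ha) (rr e) x with hy
  have hym : mat y = dM (Yc a e X) := by
    rw [Yc, dM_mm, dM_mm, dM_cc, ← gm_gu ha, ← gm_gu_inv ha, ← hxm]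
    rfl
  -- orders
  have hx7 : orderOf x = 7 := by
    have : Fact (Nat.Prime 7) := ⟨by norm_num⟩
    apply orderOf_eq_prime
    · apply mat_injective
      have : ∀ k : ℕ, mat (x ^ k) = mat x ^ k := by
        intro k
        induction k with
        | zero => rw [pow_zero, pow_zero, mat_one]
        | succ k ih => rw [pow_succ, pow_succ, mat_mul, ih]
      rw [this, hxm, hX.pow, mat_one]
    · intro h
      apply hX.ne
      rw [← hxm, h, mat_one]
  have hy7 : orderOf y = 7 := by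
    rw [hy, ← hx7]
    exact MulEquiv.orderOf_eq _ _
  obtain ⟨i, hi⟩ := hP
  set u : Cfsg.SU 4 F9 3 := x ^ i * y with hu
  have hpw : ∀ (z : Cfsg.SU 4 F9 3) (k : ℕ), mat (z ^ k) = mat z ^ k := by
    intro z k
    induction k with
    | zero => rw [pow_zero, pow_zero, mat_one]
    | succ k ih => rw [pow_succ, pow_succ, mat_mul, ih]
  have hum : mat u = dM (mm P (Yc a e X)) := by
    rw [hu, mat_mul, hpw, hxm, hym, ← hi, dM_mm]
  rw [cert, Bool.and_eq_true, Bool.and_eq_true] at hc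
  obtain ⟨hc1, hc2, hc3⟩ := hc
  refine ⟨pr 4 F9 3 x, fun K hxK hK => ?_⟩
  by_contra hne
  have hyK : pr 4 F9 3 y ∈ K := by
    have := hK _ hxK
    rwa [toAut_pr] at this
  have hne' : K.comap (pr 4 F9 3) ≠ ⊤ := by
    intro h
    apply hne
    rw [eq_top_iff]
    intro z _
    obtain ⟨w, rfl⟩ := pr_surjective z
    have : w ∈ K.comap (pr 4 F9 3) := by rw [h]; trivial
    exact this
  obtain ⟨N, hN, hKN⟩ := (eq_top_or_exists_le_coatom (K.comap (pr 4 F9 3))).resolve_left hne'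
  have hxN : x ∈ N := hKN hxK
  have hyN : y ∈ N := hKN hyK
  have huN : u ∈ N := N.mul_mem (N.pow_mem hxN i) hyN
  have hmax := isMaximalIn_map suHom_injective (range_suHom (n := 4) (F := F9) (q := 3)) hN
  have hxo : orderOf (suHom 4 F9 3 x) = 7 := by rw [orderOf_injective _ suHom_injective, hx7]
  have hyo : orderOf (suHom 4 F9 3 y) = 7 := by rw [orderOf_injective _ suHom_injective, hy7]
  have h9 : (suHom 4 F9 3 u) ^ 9 ∈ scalars (Fin 4) F9 := by
    obtain ⟨c, hc⟩ := isS_spec hc1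
    rw [dM_cb, dM_cb, ← hum, ← pow_mul] at hc
    rw [mem_scalars_iff]
    have hc' : ((((suHom 4 F9 3 u) ^ 9 : GL (Fin 4) F9)) : Matrix (Fin 4) (Fin 4) F9) = c • 1 := by
      rw [Units.val_pow_eq_pow_val]
      exact hc
    have hc0 : c ≠ 0 := by
      rintro rfl
      rw [zero_smul] at hc'
      exact ((suHom 4 F9 3 u) ^ 9).ne_zero hc'
    exact ⟨Units.mk0 c hc0, hc'⟩
  have h3 : (suHom 4 F9 3 u) ^ 3 ∉ scalars (Fin 4) F9 := by
    intro h
    obtain ⟨c, hc⟩ := (mem_scalars_iff _).1 h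
    refine nS_spec hc2 (c : F9) ?_
    rw [dM_cb, ← hum]
    rw [Units.val_pow_eq_pow_val] at hc
    exact hc
  rcases cases_of hF9 (p := 3) (f := 1) (s := 7) Nat.prime_three (by norm_num) le_rfl (by norm_num) div_iff ord_q
    le_rfl hR hmax (x := suHom 4 F9 3 x) ⟨x, hxN, rfl⟩ hxo with ⟨W, hW1, -, hHW⟩ | ⟨Q, -, hQ, eQ⟩ | ⟨Q, -, hQ, eQ⟩
  · have hq2 : finrank F9 W < orderOf ((3 ^ 2 : ℕ) : ZMod 7) := by rw [ord_q2, hW1]; norm_num
    have h1 := le_fx hF9 (by norm_num) ord_q (by norm_num) hxo (GeoU.inv_of_mem (hHW ⟨x, hxN, rfl⟩)) hq2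
    have h2 := le_fx hF9 (by norm_num) ord_q (by norm_num) hyo (GeoU.inv_of_mem (hHW ⟨y, hyN, rfl⟩)) hq2
    have h4 := fix_le hF9 (by norm_num) ord_q (by norm_num) (suHom_mem x) hxo
    have h5 : W = fx (Matrix.toLin' ((suHom 4 F9 3 x : GL (Fin 4) F9) : Matrix (Fin 4) (Fin 4) F9)) := by
      apply Submodule.eq_of_le_of_finrank_eq h1
      have := Submodule.finrank_mono h1
      omega
    apply ne9_spec hc3
    rw [dM_mm, ← hym]
    have hcol : ∀ (M : Matrix (Fin 4) (Fin 4) F9) (j i : Fin 4), (M * dM V) i j = (M *ᵥ fun k => dM V k j) i :=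
      fun M j i => rfl
    refine Matrix.ext fun i j => ?_
    have h6 : (fun k => dM V k j) ∈ fx (Matrix.toLin' ((suHom 4 F9 3 x : GL (Fin 4) F9) : Matrix (Fin 4) (Fin 4) F9)) := by
      rw [mem_fx, Matrix.toLin'_apply]
      funext k
      rw [← hcol, show ((suHom 4 F9 3 x : GL (Fin 4) F9) : Matrix (Fin 4) (Fin 4) F9) = dM X from rfl, hX.fix]
    rw [← h5] at h6
    have h7 := mem_fx.1 (h2 h6)
    rw [Matrix.toLin'_apply] at h7
    exact congrFun h7 i
  · exact core_nine hQ (Or.inl eQ) ⟨u, huN, rfl⟩ h9 h3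
  · exact core_nine hQ (Or.inr eQ) ⟨u, huN, rfl⟩ h9 h3

end Cfsg.Agent.H833.Spr4.Code
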