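import Cfsg.Agent.ChevalleyStructure.NineField

/-!
# 4 × 4 matrices over the field with nine elements, coded by natural numbers (S3938, `PSU_4(3)`)

The nibble `4 i + j` of the code of a matrix is the code `re + 3 im` of the entry `(i, j)`.
-/

set_option autoImplicit false
set_option maxRecDepth 20000

namespace Cfsg.Agent.H833.Spr4.Code

open Cfsg.Agent.ChevalleyStructure.NineField

/-- the element with a given code -/
def d9 (n : ℕ) : F9 := ⟨⟨n % 3, Nat.mod_lt _ (by decide)⟩, ⟨n / 3 % 3, Nat.mod_lt _ (by decide)⟩⟩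

/-- the multiplication table -/
def MT : ℕ := 25590604564115361080033708609007622491066914428573738826243980039831525061936824356669387737638393419909091469345785810684287944589973806803680811330188584496179198649749635546980453065510348842183758180150589299830178583235506001589003207674016588580810488412624486290070141359053845907857581421949228154880
/-- the addition table -/
def AT : ℕ := 35156533807861506472801231190520297744579465700831016531918430801989653099606095563026679351850622875454547785892293083262142589210498866212057334686267851171782042734454921273365535969041983371181409746348371406139769904313761127701863442792924671558076625051828132222073556882618353639131679447778279567888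
/-- the conjugation table -/
def CT : ℕ := 4068475619867320848

def m9 (a b : ℕ) : ℕ := Nat.mod (Nat.shiftRight MT (Nat.mul 4 (Nat.add (Nat.mul 16 a) b))) 16
def a9 (a b : ℕ) : ℕ := Nat.mod (Nat.shiftRight AT (Nat.mul 4 (Nat.add (Nat.mul 16 a) b))) 16
def c9 (a : ℕ) : ℕ := Nat.mod (Nat.shiftRight CT (Nat.mul 4 a)) 16

theorem m9_lt (a b : ℕ) : m9 a b < 16 := Nat.mod_lt _ (by decide)
theorem a9_lt (a b : ℕ) : a9 a b < 16 := Nat.mod_lt _ (by decide)
theorem c9_lt (a : ℕ) : c9 a < 16 := Nat.mod_lt _ (by decide)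

/-- conjugation -/
def cj : F9 ≃+* F9 where
  toFun x := ⟨x.re, -x.im⟩
  invFun x := ⟨x.re, -x.im⟩
  left_inv := by unfold Function.LeftInverse; decide +kernel
  right_inv := by unfold Function.RightInverse Function.LeftInverse; decide +kernel
  map_mul' := by decide +kernel
  map_add' := by decide +kernel

theorem m9_fin : ∀ a b : Fin 16, d9 (m9 a b) = d9 a * d9 b := by decide +kernel
theorem a9_fin : ∀ a b : Fin 16, d9 (a9 a b) = d9 a + d9 b := by decide +kernel
theorem c9_fin : ∀ a : Fin 16, d9 (c9 a) = cj (d9 a) := by decide +kernel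
theorem d9_fin : ∀ a b : Fin 16, d9 a = d9 b ↔ (a : ℕ) % 9 = (b : ℕ) % 9 := by decide +kernel

theorem m9_spec {a b : ℕ} (ha : a < 16) (hb : b < 16) : d9 (m9 a b) = d9 a * d9 b := m9_fin ⟨a, ha⟩ ⟨b, hb⟩
theorem a9_spec {a b : ℕ} (ha : a < 16) (hb : b < 16) : d9 (a9 a b) = d9 a + d9 b := a9_fin ⟨a, ha⟩ ⟨b, hb⟩
theorem c9_spec {a : ℕ} (ha : a < 16) : d9 (c9 a) = cj (d9 a) := c9_fin ⟨a, ha⟩
theorem d9_spec {a b : ℕ} (ha : a < 16) (hb : b < 16) : d9 a = d9 b ↔ a % 9 = b % 9 := d9_fin ⟨a, ha⟩ ⟨b, hb⟩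

/-- the nibble `k` -/
def en (M k : ℕ) : ℕ := Nat.mod (Nat.shiftRight M (Nat.mul 4 k)) 16

theorem en_lt (M k : ℕ) : en M k < 16 := Nat.mod_lt _ (by decide)

/-- the number with given nibbles -/
def mk16 (x0 x1 x2 x3 x4 x5 x6 x7 x8 x9 x10 x11 x12 x13 x14 x15 : ℕ) : ℕ :=
  Nat.add x0 (Nat.mul 16 (Nat.add x1 (Nat.mul 16 (Nat.add x2 (Nat.mul 16 (Nat.add x3 (Nat.mul 16 (Nat.add x4 (Nat.mul 16 (Nat.add x5 (Nat.mul 16 (Nat.add x6 (Nat.mul 16 (Nat.add x7 (Nat.mul 16 (Nat.add x8 (Nat.mul 16 (Nat.add x9 (Nat.mul 16 (Nat.add x10 (Nat.mul 16 (Nat.add x11 (Nat.mul 16 (Nat.add x12 (Nat.mul 16 (Nat.add x13 (Nat.mul 16 (Nat.add x14 (Nat.mul 16 (x15))))))))))))))))))))))))))))))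

theorem en_eq (M k : ℕ) : en M k = M / 16 ^ k % 16 := by
  change (M >>> (4 * k)) % 16 = _
  rw [Nat.shiftRight_eq_div_pow, pow_mul]
  norm_num

theorem en_zero {x y : ℕ} (hx : x < 16) : en (x + 16 * y) 0 = x := by
  rw [en_eq, pow_zero, Nat.div_one]
  omega

theorem en_succ {x y k : ℕ} (hx : x < 16) : en (x + 16 * y) (k + 1) = en y k := by
  rw [en_eq, en_eq, pow_succ', ← Nat.div_div_eq_div_mul]
  congr 2
  omega

theorem en_mk16 {x : Fin 16 → ℕ} (hx : ∀ k, x k < 16) (k : Fin 16) :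
    en (mk16 (x 0) (x 1) (x 2) (x 3) (x 4) (x 5) (x 6) (x 7) (x 8) (x 9) (x 10) (x 11) (x 12) (x 13) (x 14) (x 15)) k = x k := by
  change en (x 0 + 16 * (x 1 + 16 * (x 2 + 16 * (x 3 + 16 * (x 4 + 16 * (x 5 + 16 * (x 6 + 16 * (x 7 + 16 * (x 8 +
    16 * (x 9 + 16 * (x 10 + 16 * (x 11 + 16 * (x 12 + 16 * (x 13 + 16 * (x 14 + 16 * x 15))))))))))))))) k = x k
  have h15 : x 15 = x 15 + 16 * 0 := by omega
  rw [h15]
  fin_cases k <;> simp only [en_zero, en_succ, hx, Fin.mk_zero, Fin.isValue, Fin.mk_one, Fin.reduceFinMk]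

/-- the matrix with a given code -/
def dM (M : ℕ) : Matrix (Fin 4) (Fin 4) F9 := Matrix.of fun i j => d9 (en M (4 * i.val + j.val))

theorem dM_apply (M : ℕ) (i j : Fin 4) : dM M i j = d9 (en M (4 * i.val + j.val)) := rfl

/-- the number with given nibbles -/
def mkF (y : ℕ → ℕ → ℕ) : ℕ :=
  mk16 (y 0 0) (y 0 1) (y 0 2) (y 0 3) (y 1 0) (y 1 1) (y 1 2) (y 1 3) (y 2 0) (y 2 1) (y 2 2) (y 2 3) (y 3 0) (y 3 1) (y 3 2) (y 3 3)

theorem en_mkF {y : ℕ → ℕ → ℕ} (hy : ∀ i j, y i j < 16) (i j : Fin 4) :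
    en (mkF y) (4 * i.val + j.val) = y i.val j.val := by
  have h := en_mk16 (x := fun k : Fin 16 => y (k.val / 4) (k.val % 4)) (fun k => hy _ _) ⟨4 * i.val + j.val, by omega⟩
  have h1 : (4 * i.val + j.val) / 4 = i.val := by omega
  have h2 : (4 * i.val + j.val) % 4 = j.val := by omega
  dsimp only at h
  rw [h1, h2] at h
  exact h

/-- the code of an entry of a product -/
def dt (A B i j : ℕ) : ℕ :=
  a9 (a9 (m9 (en A (Nat.mul 4 i)) (en B j)) (m9 (en A (Nat.add (Nat.mul 4 i) 1)) (en B (Nat.add 4 j))))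
    (a9 (m9 (en A (Nat.add (Nat.mul 4 i) 2)) (en B (Nat.add 8 j)))
      (m9 (en A (Nat.add (Nat.mul 4 i) 3)) (en B (Nat.add 12 j))))

theorem dt_lt (A B i j : ℕ) : dt A B i j < 16 := a9_lt _ _

/-- the product -/
def mm (A B : ℕ) : ℕ :=
  mkF (dt A B)

theorem dM_mm (A B : ℕ) : dM (mm A B) = dM A * dM B := by
  ext1 i j
  rw [dM_apply, Matrix.mul_apply, Fin.sum_univ_four]
  have h : en (mm A B) (4 * i.val + j.val) = dt A B i.val j.val := by
    exact en_mkF (fun i j => dt_lt A B i j) i j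
  rw [h, dt, a9_spec (a9_lt _ _) (a9_lt _ _), a9_spec (m9_lt _ _) (m9_lt _ _), a9_spec (m9_lt _ _) (m9_lt _ _),
    m9_spec (en_lt _ _) (en_lt _ _), m9_spec (en_lt _ _) (en_lt _ _), m9_spec (en_lt _ _) (en_lt _ _),
    m9_spec (en_lt _ _) (en_lt _ _), ← add_assoc]
  have e3 : en B j.val = en B (4 * (0 : Fin 4).val + j.val) := by simp
  rw [e3]
  rfl

/-- conjugate transpose -/
def ctr (A : ℕ) : ℕ :=
  mkF fun i j => c9 (en A (Nat.add (Nat.mul 4 j) i))

theorem dM_ctr (A : ℕ) : dM (ctr A) = ((dM A).map cj).transpose := by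
  ext1 i j
  have h : en (ctr A) (4 * i.val + j.val) = c9 (en A (4 * j.val + i.val)) :=
    en_mkF (y := fun i j => c9 (en A (Nat.add (Nat.mul 4 j) i))) (fun _ _ => c9_lt _) i j
  rw [dM_apply, h, c9_spec (en_lt _ _)]
  rfl

/-- conjugation -/
def cjc (A : ℕ) : ℕ :=
  mkF fun i j => c9 (en A (Nat.add (Nat.mul 4 i) j))

theorem dM_cjc (A : ℕ) : dM (cjc A) = (dM A).map cj := by
  ext1 i j
  have h : en (cjc A) (4 * i.val + j.val) = c9 (en A (4 * i.val + j.val)) :=
    en_mkF (y := fun i j => c9 (en A (Nat.add (Nat.mul 4 i) j))) (fun _ _ => c9_lt _) i j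
  rw [dM_apply, h, c9_spec (en_lt _ _)]
  rfl

/-- different matrices -/
def ne9 (A B : ℕ) : Bool := (List.range 16).any fun k => !(Nat.beq (Nat.mod (en A k) 9) (Nat.mod (en B k) 9))

theorem ne9_spec {A B : ℕ} (h : ne9 A B = true) : dM A ≠ dM B := by
  rw [ne9, List.any_eq_true] at h
  obtain ⟨k, hk, h⟩ := h
  rw [List.mem_range] at hk
  intro hAB
  have h1 := congrFun (congrFun hAB ⟨k / 4, by omega⟩) ⟨k % 4, by omega⟩
  rw [dM_apply, dM_apply] at h1
  change d9 (en A (4 * (k / 4) + k % 4)) = d9 (en B (4 * (k / 4) + k % 4)) at h1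
  rw [Nat.div_add_mod, d9_spec (en_lt _ _) (en_lt _ _)] at h1
  rw [Bool.not_eq_true', ← Bool.not_eq_true, Nat.beq_eq] at h
  exact h h1

/-- the code of a scalar matrix -/
def sK (c : ℕ) : ℕ := Nat.mul c 1152922604119523329

theorem sK_fin : ∀ c : Fin 16, ∀ i j : Fin 4, d9 (en (sK c) (4 * i.val + j.val)) = if i = j then d9 c else 0 := by
  decide +kernel

theorem sK_spec {c : ℕ} (hc : c < 16) : dM (sK c) = d9 c • (1 : Matrix (Fin 4) (Fin 4) F9) := by
  ext1 i j
  rw [dM_apply, Matrix.smul_apply, Matrix.one_apply, smul_eq_mul, mul_ite, mul_one, mul_zero]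
  exact sK_fin ⟨c, hc⟩ i j

theorem dM_one : dM (sK 1) = 1 := by
  rw [sK_spec (by decide)]
  have : d9 1 = 1 := by decide +kernel
  rw [this, one_smul]

/-- scalar matrices -/
def isS (A : ℕ) : Bool := Nat.beq A (sK (Nat.mod A 16))

theorem isS_spec {A : ℕ} (h : isS A = true) : ∃ c : F9, dM A = c • (1 : Matrix (Fin 4) (Fin 4) F9) := by
  rw [isS, Nat.beq_eq] at h
  exact ⟨_, by rw [h]; exact sK_spec (Nat.mod_lt _ (by decide))⟩

/-- non-scalar matrices -/
def nS (A : ℕ) : Bool := ne9 A (sK (en A 0))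

theorem nS_spec {A : ℕ} (h : nS A = true) (c : F9) : dM A ≠ c • (1 : Matrix (Fin 4) (Fin 4) F9) := by
  intro h1
  apply ne9_spec h
  rw [sK_spec (en_lt _ _), h1]
  have h2 := congrFun (congrFun h1 0) 0
  rw [Matrix.smul_apply, Matrix.one_apply_eq, smul_eq_mul, mul_one] at h2
  rw [← h2]
  rfl

end Cfsg.Agent.H833.Spr4.Code
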