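import Cfsg.Agent.H833.Spr4.Basic
import Cfsg.Agent.LieClassical.SUBasic

/-!
# S3938, `PSU_n(q)`: the criterion `U2` in `GL_n(q²)`
-/

set_option autoImplicit false
set_option linter.unusedSectionVars false

namespace Cfsg.Agent.H833.Spr4

open Cfsg Cfsg.Geo Module Cfsg.Agent.H918 Cfsg.Agent.H251 Cfsg.Agent.H951 Cfsg.Agent.H834.Cov
open Cfsg.Agent.H424.Spr (Spr)
open scoped Matrix MatrixGroups

section crit

variable {F : Type} [Field F] [Fintype F] {n q : ℕ}

theorem center_le_of (hF : Fintype.card F = q ^ 2) (hn : 3 ≤ n) {M : Subgroup (GL (Fin n) F)}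
    (hM : scalars (Fin n) F ≤ M) : Subgroup.center (Cfsg.SU n F q) ≤ M.comap (suHom n F q) := by
  intro A hA
  rw [Cfsg.Agent.LieClassical.SUBasic.mem_center_SU_iff hF hn] at hA
  obtain ⟨c, hcn, hcq, hA⟩ := hA
  apply hM
  rw [Cfsg.Geo.mem_scalars_iff]
  have hc0 : c ≠ 0 := by
    rintro rfl
    rw [zero_pow (by omega)] at hcn
    exact zero_ne_one hcn
  refine ⟨Units.mk0 c hc0, ?_⟩
  rw [coe_suHom, hA]
  simp [Matrix.smul_one_eq_diagonal]

theorem comap_conj (M : Subgroup (GL (Fin n) F)) (y : Cfsg.SU n F q) (hy : suHom n F q y ∈ M) :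
    (M.comap (suHom n F q)).map (MulAut.conj y).toMonoidHom = M.comap (suHom n F q) := by
  have key : ∀ z : Cfsg.SU n F q, suHom n F q z ∈ M → ∀ x ∈ M.comap (suHom n F q), z * x * z⁻¹ ∈ M.comap (suHom n F q) := by
    intro z hz x hx
    have hx' : suHom n F q x ∈ M := hx
    change suHom n F q (z * x * z⁻¹) ∈ M
    rw [map_mul, map_mul, map_inv]
    exact Subgroup.mul_mem _ (Subgroup.mul_mem _ hz hx') (Subgroup.inv_mem _ hz)
  apply le_antisymm
  · rintro _ ⟨x, hx, rfl⟩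
    exact key y hy x hx
  · intro x hx
    refine ⟨y⁻¹ * x * y, ?_, ?_⟩
    · have := key y⁻¹ (by rw [map_inv]; exact Subgroup.inv_mem _ hy) x hx
      rwa [inv_inv] at this
    · change y * (y⁻¹ * x * y) * y⁻¹ = x
      group

/-- **U2 for `PSU_n(q)`** -/
theorem spr_two_of (hF : Fintype.card F = q ^ 2) (hn : 3 ≤ n) (h32 : ¬ (n = 3 ∧ q = 2)) {s : GL (Fin n) F}
    (hs : s ∈ SUg n F q) {M₁ M₂ : Subgroup (GL (Fin n) F)} (h1 : ¬ SUg n F q ≤ M₁) (h2 : ¬ SUg n F q ≤ M₂)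
    (hc1 : scalars (Fin n) F ≤ M₁) (hc2 : scalars (Fin n) F ≤ M₂) (hs2 : s ∈ M₂)
    (hnc : ∀ y ∈ SUg n F q, y⁻¹ * s * y ∈ M₁ → y ∈ M₁)
    (h : ∀ H, IsMaximalIn (SUg n F q) H → s ∈ H → H ≤ M₁ ∨ H ≤ M₂) : Spr (PSU n F q) := by
  have hfin : Finite (Cfsg.SU n F q) := inferInstance
  have hsim := Cfsg.Agent.S0283.result hF n hn h32
  have hna := hna_psu hF hn h32
  obtain ⟨s', rfl⟩ := exists_suHom hs
  have htop : ∀ M : Subgroup (GL (Fin n) F), ¬ SUg n F q ≤ M → M.comap (suHom n F q) ≠ ⊤ := by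
    intro M hM htop
    apply hM
    rw [← range_suHom]
    rintro _ ⟨A, rfl⟩
    have : A ∈ M.comap (suHom n F q) := by rw [htop]; trivial
    exact this
  refine H424.Spr.spr_of_two_up (G := Cfsg.SU n F q) hna (QuotientGroup.mk' _) (QuotientGroup.mk'_surjective _) (s := s')
    (M₁ := M₁.comap (suHom n F q)) (M₂ := M₂.comap (suHom n F q)) ?_ ?_ (htop _ h1) (htop _ h2) ?_ ?_
  · rw [QuotientGroup.ker_mk']
    exact center_le_of hF hn hc1
  · rw [QuotientGroup.ker_mk']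
    exact center_le_of hF hn hc2
  · intro y hy
    have h3 : s' ∈ (M₁.comap (suHom n F q)).map (MulAut.conj y).toMonoidHom := by
      rw [hy]
      exact hs2
    obtain ⟨x, hx, hxs⟩ := h3
    have hxs' : y * x * y⁻¹ = s' := hxs
    have h4 : suHom n F q y ∈ M₁ := by
      apply hnc _ (suHom_mem y)
      rw [← hxs', map_mul, map_mul, map_inv]
      have h5 : (suHom n F q y)⁻¹ * (suHom n F q y * suHom n F q x * (suHom n F q y)⁻¹) * suHom n F q y =
          suHom n F q x := by group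
      rw [h5]
      exact hx
    rw [← hy, comap_conj M₁ y h4]
  · intro K _ hsK hK
    obtain ⟨i, hi⟩ := cover_of (ι := Bool) (M := fun b => if b then M₁ else M₂) (fun H hH hsH => by
      rcases h H hH hsH with h3 | h3
      · exact ⟨true, h3⟩
      · exact ⟨false, h3⟩) K hsK hK
    cases i
    · exact Or.inr hi
    · exact Or.inl hi

theorem scalars_le_sub (W : Submodule F (Fin n → F)) : scalars (Fin n) F ≤ subspaceStabilizer W := by
  intro x hx
  obtain ⟨c, hc⟩ := (mem_scalars_iff _).1 hx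
  rw [mem_subspaceStabilizer]
  intro v
  rw [hc, Matrix.smul_mulVec, Matrix.one_mulVec]
  exact (Submodule.smul_mem_iff _ c.ne_zero).symm

theorem scalars_le_dec {t : ℕ} (D : Fin t → Submodule F (Fin n → F)) :
    scalars (Fin n) F ≤ decompositionStabilizer D := by
  intro x hx
  obtain ⟨c, hc⟩ := (mem_scalars_iff _).1 hx
  refine ⟨1, fun i => ?_⟩
  rw [Equiv.Perm.one_apply]
  ext v
  rw [Submodule.mem_map]
  constructor
  · rintro ⟨w, hw, rfl⟩
    rw [Matrix.toLin'_apply, hc, Matrix.smul_mulVec, Matrix.one_mulVec]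
    exact Submodule.smul_mem _ _ hw
  · intro hv
    refine ⟨(c : F)⁻¹ • v, Submodule.smul_mem _ _ hv, ?_⟩
    rw [Matrix.toLin'_apply, hc, Matrix.smul_mulVec, Matrix.one_mulVec, smul_smul, mul_inv_cancel₀ c.ne_zero, one_smul]

end crit

end Cfsg.Agent.H833.Spr4
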